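import Cfsg.Agent.H69.Small4.Local
import Cfsg.Agent.H56.DihReflect
import Cfsg.Agent.H24.TwoMaxClass
import Cfsg.Agent.H77.BSW.Dihedral
import Cfsg.Agent.S0204
import Cfsg.Agent.S3225
import Cfsg.Agent.S3278
import Cfsg.Agent.S3331

/-!
# Reduction to dihedral Sylow subgroups of order eight
-/

set_option autoImplicit false
set_option linter.style.haveILetI false
set_option linter.unusedSectionVars false

namespace Cfsg.Agent.H69.Small4

open Cfsg.Agent Subgroup

variable {G : Type*} [Group G] [Finite G]

theorem quaternion_involution {m : ℕ} [NeZero m] {g : QuaternionGroup m} (hg : g * g = 1) :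
    g = 1 ∨ g = QuaternionGroup.a (m : ZMod (2 * m)) := by
  cases g with
  | a i =>
    rw [QuaternionGroup.a_mul_a, ← QuaternionGroup.a_zero] at hg
    have h := QuaternionGroup.a.inj hg
    have h2 : ((i.val + i.val : ℕ) : ZMod (2 * m)) = 0 := by
      rw [Nat.cast_add, ZMod.natCast_zmod_val]; exact h
    rw [ZMod.natCast_eq_zero_iff, show i.val + i.val = 2 * i.val from (two_mul _).symm] at h2
    obtain ⟨c, hc⟩ := Nat.dvd_of_mul_dvd_mul_left two_pos h2
    have hlt := ZMod.val_lt i
    have hc2 : c < 2 := by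
      by_contra hc3
      push Not at hc3
      have := Nat.mul_le_mul_left m hc3
      omega
    interval_cases c
    · left
      rw [← QuaternionGroup.a_zero]
      exact congrArg _ ((ZMod.val_eq_zero i).1 (by omega))
    · right
      rw [← ZMod.natCast_zmod_val i, hc, mul_one]
  | xa i =>
    exfalso
    have h := QuaternionGroup.orderOf_xa i
    have h2 := orderOf_dvd_of_pow_eq_one (show (QuaternionGroup.xa i) ^ 2 = 1 by rw [pow_two, hg])
    rw [h] at h2
    norm_num at h2

/-- No quaternion Sylow subgroups. -/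
theorem no_quaternion [IsSimpleGroup G] (hG : ¬ IsCyclic G) (P : Sylow 2 G) {m : ℕ}
    (e : (P : Subgroup G) ≃* QuaternionGroup m) : False := by
  haveI : Fact (Nat.Prime 2) := ⟨Nat.prime_two⟩
  obtain ⟨E, hE⟩ := S0204.result hG
  haveI hm : NeZero m := by
    refine ⟨?_⟩
    rintro rfl
    haveI : Finite (QuaternionGroup 0) := Finite.of_equiv _ e.toEquiv
    haveI : Finite ℤ :=
      Finite.of_injective (fun i : ℤ => (QuaternionGroup.a i : QuaternionGroup 0))
        fun i j h => QuaternionGroup.a.inj h
    exact not_finite ℤ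
  have hEp : IsPGroup 2 E := IsPGroup.of_card (n := 2) (by rw [hE.card_four]; norm_num)
  obtain ⟨Q, hQ⟩ := hEp.exists_le_sylow
  obtain ⟨g, hg⟩ := MulAction.exists_smul_eq G Q P
  have hmem : ∀ x : E, g * (x : G) * g⁻¹ ∈ (P : Subgroup G) := fun x => by
    rw [← hg, Sylow.coe_subgroup_smul]
    exact ⟨x, hQ x.2, by simp⟩
  let f : E → QuaternionGroup m := fun x => e ⟨g * (x : G) * g⁻¹, hmem x⟩
  have hf : Function.Injective f := fun x y h =>
    Subtype.ext (mul_left_cancel (mul_right_cancel (congrArg Subtype.val (e.injective h))))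
  have hf2 : ∀ x, f x ∈ ({1, QuaternionGroup.a (m : ZMod (2 * m))} : Finset _) := fun x => by
    have h : f x * f x = 1 := by
      show e _ * e _ = 1
      rw [← map_mul, ← map_one e]
      refine congrArg e (Subtype.ext ?_)
      push_cast
      rw [show g * (x : G) * g⁻¹ * (g * (x : G) * g⁻¹) = g * ((x : G) * x) * g⁻¹ by group,
        show (x : G) * x = 1 from congrArg Subtype.val (hE.mul_self x), mul_one, mul_inv_cancel]
    simp only [Finset.mem_insert, Finset.mem_singleton]
    exact quaternion_involution h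
  haveI := Fintype.ofFinite E
  have h4 := (Finset.card_le_card_of_injOn (s := Finset.univ) f (fun x _ => hf2 x) hf.injOn).trans
    Finset.card_le_two
  rw [Finset.card_univ, ← Nat.card_eq_fintype_card, hE.card_four] at h4
  omega

theorem simple_no_index_two [IsSimpleGroup G] (hG : ¬ IsCyclic G) (H : Subgroup G) :
    H.index ≠ 2 := by
  intro h
  rcases (normal_of_index_eq_two h).eq_bot_or_eq_top with rfl | rfl
  · rw [Subgroup.index_bot] at h
    exact hG (isCyclic_of_prime_card (p := 2) h)
  · rw [Subgroup.index_top] at h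
    omega

theorem card_centralizer_le_of_pow (w : G) (x : G) (h : Commute w x) :
    orderOf x ≤ Nat.card (centralizer ({w} : Set G)) := by
  rw [← Nat.card_zpowers]
  refine Subgroup.card_le_of_le (zpowers_le.2 (mem_centralizer_singleton_iff.2 ?_))
  exact h.symm.eq

/-- Semidihedral Sylow subgroups do not occur. -/
theorem no_quasiDihedral [IsSimpleGroup G] (hG : ¬ IsCyclic G) (P : Sylow 2 G)
    (hP : Cfsg.IsQuasiDihedral (P : Subgroup G)) {w : G} (hw : w ∈ (P : Subgroup G))
    (ho : orderOf w = 2 ∨ orderOf w = 4) (hC : Nat.card (centralizer ({w} : Set G)) ≤ 4) : False := by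
  obtain ⟨n, hn, hcard, ⟨x, hxP⟩, ⟨y, hyP⟩, hx, hy, hrel⟩ := hP
  rw [Subgroup.orderOf_mk] at hx hy
  have hrel' : y * x * y⁻¹ = x ^ (2 ^ (n - 1) - 1) := congrArg Subtype.val hrel
  have h2n : 8 ≤ 2 ^ n := (Nat.pow_le_pow_right two_pos hn).trans_eq' (by norm_num)
  have hhalf : 2 ^ n = 2 * 2 ^ (n - 1) := by
    rw [← pow_succ', show n - 1 + 1 = n by omega]
  have hy2 : y * y = 1 := H28.mul_self_of_orderOf_two hy
  have hyx : y ∉ zpowers x := by
    intro h
    obtain ⟨j, hj⟩ := mem_zpowers_iff.1 h
    have h1 : y * x * y⁻¹ = x := by rw [← hj]; group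
    rw [h1] at hrel'
    have h2 : x ^ 1 = x ^ (2 ^ (n - 1) - 1) := by rw [pow_one]; exact hrel'
    have h3 := pow_injOn_Iio_orderOf (x := x) (by rw [hx]; simp only [Set.mem_Iio]; omega)
      (by rw [hx]; simp only [Set.mem_Iio]; omega) h2
    omega
  have hforms : ∀ p ∈ (P : Subgroup G), ∃ i : ℕ, p = x ^ i ∨ p = y * x ^ i := by
    have hX : zpowers x ≤ (P : Subgroup G) := zpowers_le.2 hxP
    have hidx : ((zpowers x).subgroupOf (P : Subgroup G)).index = 2 := by
      have h := Subgroup.card_mul_index ((zpowers x).subgroupOf (P : Subgroup G))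
      rw [Nat.card_congr (subgroupOfEquivOfLe hX).toEquiv, Nat.card_zpowers, hx, hcard,
        pow_succ] at h
      exact Nat.eq_of_mul_eq_mul_left (by positivity) h
    intro p hp
    have key := (mul_mem_iff_of_index_two hidx (a := (⟨y, hyP⟩⁻¹ : (P : Subgroup G)))
      (b := ⟨p, hp⟩))
    simp only [mem_subgroupOf, Subgroup.coe_inv, Subgroup.coe_mul, inv_mem_iff] at key
    by_cases hpx : p ∈ zpowers x
    · obtain ⟨i, hi⟩ := mem_powers_iff_mem_zpowers.2 hpx
      exact ⟨i, Or.inl hi.symm⟩
    · have h1 : y⁻¹ * p ∈ zpowers x := key.2 ⟨fun h => absurd h hyx, fun h => absurd h hpx⟩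
      obtain ⟨i, hi⟩ := mem_powers_iff_mem_zpowers.2 h1
      exact ⟨i, Or.inr (by rw [show x ^ i = y⁻¹ * p from hi, mul_inv_cancel_left])⟩
  have hconjy : ∀ i : ℕ, y * x ^ i * y⁻¹ = x ^ (i * (2 ^ (n - 1) - 1)) := fun i => by
    rw [← conj_pow, hrel', ← pow_mul, mul_comm]
  have hsq : ∀ i : ℕ, (y * x ^ i) * (y * x ^ i) = x ^ (i * 2 ^ (n - 1)) := fun i => by
    have hinv : y⁻¹ = y := inv_eq_of_mul_eq_one_right hy2
    calc y * x ^ i * (y * x ^ i) = y * x ^ i * y⁻¹ * x ^ i := by rw [hinv]; group
      _ = x ^ (i * 2 ^ (n - 1)) := by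
        rw [hconjy, ← pow_add]
        congr 1
        have : 1 ≤ 2 ^ (n - 1) := Nat.one_le_two_pow
        obtain ⟨q, hq⟩ : ∃ q, 2 ^ (n - 1) = q + 1 := ⟨2 ^ (n - 1) - 1, by omega⟩
        rw [hq, Nat.add_sub_cancel, mul_add, mul_one]
  have hnotX : ∀ v : G, Nat.card (centralizer ({v} : Set G)) ≤ 4 → v ∉ zpowers x := by
    intro v hv h
    obtain ⟨j, hj⟩ := mem_zpowers_iff.1 h
    have h1 := card_centralizer_le_of_pow v x (by rw [← hj]; exact (Commute.refl x).zpow_left j)
    omega
  have hconjC : ∀ g : G, Nat.card (centralizer ({g * w * g⁻¹} : Set G)) ≤ 4 := fun g => by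
    rw [H26.card_centralizer_eq_of_isConj (isConj_iff.2 ⟨g⁻¹, by group⟩ : IsConj (g * w * g⁻¹) w)]
    exact hC
  have hev : Even (Nat.card G) := by
    rw [even_iff_two_dvd, ← hy]
    exact orderOf_dvd_natCard y
  rcases ho with ho | ho
  · obtain ⟨g, hg⟩ := S3225.result hev (simple_no_index_two hG) P (zpowers x) (zpowers_le.2 hxP)
      (by
        have h := Subgroup.card_mul_index ((zpowers x).subgroupOf (P : Subgroup G))
        rw [Nat.card_congr (subgroupOfEquivOfLe (zpowers_le.2 hxP)).toEquiv, Nat.card_zpowers, hx,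
          hcard, pow_succ] at h
        exact Nat.eq_of_mul_eq_mul_left (by positivity) h)
      1 le_rfl (fun p _ hp => by
        rw [Nat.sub_self, pow_zero]
        have h0 := orderOf_pos p
        have h1 : orderOf p ≠ 1 := fun h => hp (by rw [orderOf_eq_one_iff.1 h]; exact one_mem _)
        omega) w hw (by rw [ho, pow_one])
    exact hnotX _ (hconjC g) hg
  · -- the dihedral maximal subgroup
    let M : Subgroup G :=
      { carrier := {p | ∃ j : ℕ, p = x ^ (2 * j) ∨ p = y * x ^ (2 * j)}
        one_mem' := ⟨0, Or.inl (by simp)⟩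
        mul_mem' := by
          rintro a b ⟨i, ha⟩ ⟨j, hb⟩
          have hinv : y⁻¹ = y := inv_eq_of_mul_eq_one_right hy2
          have hpy : x ^ (2 * i) * y = y * x ^ (2 * (i * (2 ^ (n - 1) - 1))) := by
            rw [← mul_assoc 2, ← hconjy, hinv, ← mul_assoc, ← mul_assoc, hy2, one_mul]
          rcases ha with rfl | rfl <;> rcases hb with rfl | rfl
          · exact ⟨i + j, Or.inl (by rw [← pow_add, mul_add])⟩
          · exact ⟨i * (2 ^ (n - 1) - 1) + j,
              Or.inr (by rw [← mul_assoc, hpy, mul_assoc, ← pow_add, mul_add])⟩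
          · exact ⟨i + j, Or.inr (by rw [mul_assoc, ← pow_add, mul_add])⟩
          · refine ⟨i * (2 ^ (n - 1) - 1) + j, Or.inl ?_⟩
            rw [mul_assoc y, ← mul_assoc (x ^ (2 * i)), hpy, mul_assoc y (x ^ _), ← mul_assoc y y,
              hy2, one_mul, ← pow_add, mul_add]
        inv_mem' := by
          intro a ha
          obtain ⟨i, rfl | rfl⟩ := ha
          · refine ⟨i * (2 ^ n - 1), Or.inl ?_⟩
            rw [inv_eq_iff_mul_eq_one, ← pow_add, ← orderOf_dvd_iff_pow_eq_one, hx]
            refine ⟨2 * i, ?_⟩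
            obtain ⟨q, hq⟩ : ∃ q, 2 ^ n = q + 1 := ⟨2 ^ n - 1, by omega⟩
            rw [hq, Nat.add_sub_cancel]
            ring
          · refine ⟨i, Or.inr ?_⟩
            rw [inv_eq_iff_mul_eq_one, hsq, ← orderOf_dvd_iff_pow_eq_one, hx, hhalf]
            exact mul_dvd_mul (dvd_mul_right 2 i) dvd_rfl }
    have hMP : M ≤ (P : Subgroup G) := by
      rintro p ⟨j, rfl | rfl⟩
      · exact pow_mem hxP _
      · exact mul_mem hyP (pow_mem hxP _)
    have hodd : ∀ i, Odd i → ∀ j : ℕ, x ^ i ≠ x ^ (2 * j) := by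
      intro i hi j h
      rw [pow_eq_pow_iff_modEq, hx] at h
      have h' := h.of_dvd (dvd_pow_self 2 (by omega : n ≠ 0))
      rw [Nat.ModEq, Nat.mul_mod_right, Nat.odd_iff.1 hi] at h'
      omega
    have hxM : x ∉ M := by
      rintro ⟨j, h | h⟩
      · exact hodd 1 odd_one j (by rw [pow_one]; exact h)
      · exact hyx (by
          rw [eq_mul_inv_of_mul_eq h.symm]
          exact mul_mem (mem_zpowers x) (inv_mem (pow_mem (mem_zpowers x) _)))
    have hMidx : M.relIndex (P : Subgroup G) = 2 := by
      refine index_eq_two_iff.2 ⟨⟨x, hxP⟩, fun b => ?_⟩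
      simp only [mem_subgroupOf, Subgroup.coe_mul]
      by_cases hb : (b : G) ∈ M
      · refine Or.inr ⟨hb, fun h => hxM ?_⟩
        have := mul_mem (inv_mem hb) h
        rwa [inv_mul_cancel_left] at this
      · refine Or.inl ⟨?_, hb⟩
        obtain ⟨i, hi⟩ := hforms b b.2
        rcases Nat.even_or_odd i with ⟨j, rfl⟩ | ⟨j, rfl⟩
        · exact absurd ⟨j, by rwa [two_mul]⟩ hb
        · refine ⟨j + 1, ?_⟩
          rcases hi with hi | hi <;> rw [hi]
          · exact Or.inl (by rw [← pow_succ]; ring_nf)
          · exact Or.inr (by rw [mul_assoc, ← pow_succ]; ring_nf)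
    obtain ⟨g, hg⟩ := S3225.result hev (simple_no_index_two hG) P M hMP hMidx 2 one_le_two
      (fun p hp hpM => by
        norm_num
        by_contra hle
        push Not at hle
        have h0 := orderOf_pos p
        have h2 : p ^ 2 = 1 := orderOf_dvd_iff_pow_eq_one.1 (by interval_cases (orderOf p) <;> norm_num)
        apply hpM
        obtain ⟨i, rfl | rfl⟩ := hforms p hp
        · rw [← pow_mul, ← orderOf_dvd_iff_pow_eq_one, hx, hhalf, mul_comm 2 (2 ^ (n - 1))] at h2
          obtain ⟨q, hq⟩ := Nat.dvd_of_mul_dvd_mul_right two_pos h2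
          refine ⟨2 ^ (n - 2) * q, Or.inl ?_⟩
          rw [hq, ← mul_assoc, ← pow_succ', show n - 2 + 1 = n - 1 by omega]
        · rw [pow_two, hsq, ← orderOf_dvd_iff_pow_eq_one, hx, hhalf] at h2
          obtain ⟨q, rfl⟩ := Nat.dvd_of_mul_dvd_mul_right (by positivity) h2
          exact ⟨q, Or.inr rfl⟩) w hw (by rw [ho]; norm_num)
    obtain ⟨j, hj | hj⟩ := hg
    · exact hnotX _ (hconjC g) (hj ▸ pow_mem (mem_zpowers x) _)
    · have h1 : (g * w * g⁻¹) * (g * w * g⁻¹) = 1 := by
        rw [hj, hsq, ← orderOf_dvd_iff_pow_eq_one, hx, hhalf]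
        exact mul_dvd_mul (dvd_mul_right 2 j) dvd_rfl
      have h2 := orderOf_dvd_of_pow_eq_one (show (g * w * g⁻¹) ^ 2 = 1 by rw [pow_two, h1])
      rw [H28.orderOf_conj_eq, ho] at h2
      norm_num at h2

/-- Everything except the dihedral group of order eight is settled. -/
theorem reduce [IsSimpleGroup G] (hG : ¬ IsCyclic G) (w : G)
    (hw : Nat.card (centralizer ({w} : Set G)) ≤ 4) :
    Nonempty (G ≃* ↥(alternatingGroup (Fin 5))) ∨
    (∃ (F : Type) (_ : Field F) (_ : Fintype F), Fintype.card F = 7 ∧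
        Nonempty (G ≃* Matrix.ProjectiveSpecialLinearGroup (Fin 2) F)) ∨
    ∃ (P : Sylow 2 G) (σ τ : G) (R : H56.CentRetr P (H56.centInv σ 3)), Config P σ τ R := by
  classical
  haveI : Fact (Nat.Prime 2) := ⟨Nat.prime_two⟩
  obtain ⟨E, hE⟩ := S0204.result hG
  have hE4 : 4 ∣ Nat.card G := by
    rw [← hE.card_four]; exact Subgroup.card_subgroup_dvd_card E
  have hdvd : orderOf w ∣ Nat.card (centralizer ({w} : Set G)) := by
    rw [← Nat.card_zpowers]
    exact Subgroup.card_dvd_of_le (zpowers_le.2 (mem_centralizer_singleton_iff.2 rfl))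
  have hw1 : w ≠ 1 := by
    rintro rfl
    have htop : centralizer ({(1 : G)} : Set G) = ⊤ := eq_top_iff.2 fun g _ =>
      mem_centralizer_singleton_iff.2 (by simp)
    rw [htop, Subgroup.card_top] at hw
    have hle := Nat.le_of_dvd Nat.card_pos hE4
    have h4 : Nat.card G = 2 ^ 2 := by omega
    haveI := IsPGroup.isMulCommutative_of_card_eq_prime_sq h4
    let _ : CommGroup G := { ‹Group G› with mul_comm := fun a b => mul_comm' a b }
    exact hG inferInstance
  have hord : orderOf w ≠ 1 := fun h => hw1 (orderOf_eq_one_iff.1 h)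
  have hpos : 0 < Nat.card (centralizer ({w} : Set G)) := Nat.card_pos
  obtain ⟨c, hc⟩ : ∃ c, Nat.card (centralizer ({w} : Set G)) = c := ⟨_, rfl⟩
  rw [hc] at hw hdvd hpos
  by_cases h3 : c = 3
  · subst h3
    have hord3 : orderOf w = 3 := ((Nat.dvd_prime Nat.prime_three).1 hdvd).resolve_left hord
    have hX : Nat.card (zpowers w) = 3 := by rw [Nat.card_zpowers, hord3]
    have hCX : centralizer ((zpowers w : Subgroup G) : Set G) = zpowers w := by
      refine le_antisymm ?_ ?_
      · have heq : zpowers w = centralizer ({w} : Set G) :=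
          Subgroup.eq_of_le_of_card_ge (zpowers_le.2 (mem_centralizer_singleton_iff.2 rfl))
            (by rw [hX, hc])
        intro x hx
        rw [heq, mem_centralizer_singleton_iff]
        exact (mem_centralizer_iff.1 hx w (mem_zpowers w)).symm
      · intro x hx
        rw [mem_centralizer_iff]
        intro z hz
        obtain ⟨i, rfl⟩ := mem_zpowers_iff.1 hx
        obtain ⟨j, rfl⟩ := mem_zpowers_iff.1 hz
        group
    rcases S3331.result (zpowers w) hX hCX with ⟨N, hN, -, -, h⟩ | ⟨N, hN, -, -, ⟨f⟩⟩ | h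
    · exfalso
      rcases hN.eq_bot_or_eq_top with rfl | rfl
      · have e : G ⧸ (⊥ : Subgroup G) ≃* G := QuotientGroup.quotientBot
        rcases h with h | ⟨⟨f⟩⟩
        · rw [Nat.card_congr e.toEquiv] at h
          rw [h] at hE4
          norm_num at hE4
        · have h6 := Nat.card_congr (e.symm.trans f).toEquiv
          rw [Nat.card_perm, Nat.card_fin] at h6
          rw [h6] at hE4
          norm_num at hE4
      · haveI : Subsingleton (G ⧸ (⊤ : Subgroup G)) := QuotientGroup.subsingleton_quotient_top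
        rcases h with h | ⟨⟨f⟩⟩
        · rw [Nat.card_unique] at h; omega
        · have h6 := Nat.card_congr f.toEquiv
          rw [Nat.card_perm, Nat.card_fin, Nat.card_unique] at h6
          norm_num at h6
    · rcases hN.eq_bot_or_eq_top with rfl | rfl
      · exact Or.inl ⟨QuotientGroup.quotientBot.symm.trans f⟩
      · exfalso
        haveI : Subsingleton (G ⧸ (⊤ : Subgroup G)) := QuotientGroup.subsingleton_quotient_top
        have h1 := Nat.card_congr f.toEquiv
        rw [Nat.card_unique] at h1
        have h2 := two_mul_card_alternatingGroup (α := Fin 5)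
        rw [Fintype.card_perm, Fintype.card_fin, ← Nat.card_eq_fintype_card, ← h1] at h2
        norm_num at h2
    · exact Or.inr (Or.inl ⟨ZMod 7, @ZMod.instField 7 ⟨by norm_num⟩, inferInstance, ZMod.card 7, h⟩)
  have ho : orderOf w = 2 ∨ orderOf w = 4 := by
    have := Nat.le_of_dvd hpos hdvd
    have hp := orderOf_pos w
    interval_cases c <;> interval_cases h : orderOf w <;> simp_all
  have hwp : IsPGroup 2 (zpowers w) := by
    rcases ho with h | h
    · exact IsPGroup.of_card (n := 1) (by rw [Nat.card_zpowers, h, pow_one])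
    · exact IsPGroup.of_card (n := 2) (by rw [Nat.card_zpowers, h]; norm_num)
  obtain ⟨P, hPw⟩ := hwp.exists_le_sylow
  have hwP : w ∈ (P : Subgroup G) := hPw (mem_zpowers w)
  obtain ⟨k, hk⟩ := IsPGroup.iff_card.1 P.isPGroup'
  have hP4 : 4 ∣ Nat.card (P : Subgroup G) := by
    rw [Sylow.card_eq_multiplicity P]
    exact pow_dvd_pow 2 ((Nat.Prime.pow_dvd_iff_le_factorization Nat.prime_two Nat.card_pos.ne').1
      (show 2 ^ 2 ∣ Nat.card G from hE4))
  have hk2 : 2 ≤ k := by
    by_contra h
    push Not at h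
    have := Nat.le_of_dvd Nat.card_pos hP4
    rw [hk] at this
    interval_cases k <;> norm_num at this
  rcases Nat.lt_or_ge k 3 with hk3 | hk3
  · -- Klein four Sylow subgroups
    obtain rfl : k = 2 := by omega
    have hP : ∀ p ∈ (P : Subgroup G), p * p = 1 := by
      obtain ⟨Q, hQ⟩ := (IsPGroup.of_card (n := 2) (hE.card_four.trans (by norm_num)) :
        IsPGroup 2 E).exists_le_sylow
      have hQE : (Q : Subgroup G) = E := (Subgroup.eq_of_le_of_card_ge hQ (by
        rw [hE.card_four, Sylow.card_eq_multiplicity Q, ← Sylow.card_eq_multiplicity P, hk]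
        norm_num)).symm
      obtain ⟨g, hg⟩ := MulAction.exists_smul_eq G Q P
      intro p hp
      rw [← hg, Sylow.coe_subgroup_smul, hQE] at hp
      obtain ⟨q, hq, rfl⟩ := hp
      show g * q * g⁻¹ * (g * q * g⁻¹) = 1
      rw [show g * q * g⁻¹ * (g * q * g⁻¹) = g * (q * q) * g⁻¹ by group,
        show q * q = 1 from congrArg Subtype.val (hE.mul_self ⟨q, hq⟩), mul_one, mul_inv_cancel]
    have hw2 : orderOf w = 2 := H28.orderOf_two_of_mul_self (hP w hwP) hw1
    haveI := IsPGroup.isMulCommutative_of_card_eq_prime_sq hk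
    have hle : (P : Subgroup G) ≤ centralizer ({w} : Set G) := fun p hp =>
      mem_centralizer_singleton_iff.2 (congrArg Subtype.val (mul_comm'
        (⟨p, hp⟩ : (P : Subgroup G)) ⟨w, hwP⟩))
    have heq : (P : Subgroup G) = centralizer ({w} : Set G) :=
      Subgroup.eq_of_le_of_card_ge hle (by rw [hc, hk]; omega)
    haveI : Nontrivial (P : Subgroup G) :=
      Finite.one_lt_card_iff_nontrivial.1 (by rw [hk]; norm_num)
    have hK : IsKleinFour (P : Subgroup G) :=
      { card_four := by rw [hk]; norm_num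
        exponent_two := by
          apply Monoid.exponent_eq_prime_iff Nat.prime_two |>.2
          intro g hg
          exact orderOf_eq_prime (by rw [pow_two]; exact Subtype.ext (hP g g.2)) hg
      }
    refine Or.inl (S3278.result w hw2 (P : Subgroup G) hle hK ?_ ?_)
    · rw [← heq, relIndex_self]; norm_num
    · rw [← heq, subgroupOf_self]; infer_instance
  -- maximal class
  have hPcard8 : 8 ≤ Nat.card (P : Subgroup G) := by
    rw [hk]; exact (Nat.pow_le_pow_right two_pos hk3).trans_eq' (by norm_num)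
  set w' : (P : Subgroup G) := ⟨w, hwP⟩
  set A : Subgroup (P : Subgroup G) := centralizer ({w'} : Set (P : Subgroup G)) with hAdef
  have hA4le : Nat.card A ≤ 4 := by
    refine le_trans ?_ (hc.trans_le hw)
    refine Nat.card_le_card_of_injective
      (fun a : A => (⟨((a : (P : Subgroup G)) : G), mem_centralizer_singleton_iff.2
        (congrArg Subtype.val (mem_centralizer_singleton_iff.1 a.2))⟩ :
          centralizer ({w} : Set G))) fun a b h => ?_
    exact Subtype.ext (Subtype.ext (congrArg (fun z : centralizer ({w} : Set G) => (z : G)) h))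
  have hA : Nat.card A = 2 ^ 2 := by
    obtain ⟨e, he⟩ := IsPGroup.iff_card.1 (P.isPGroup'.to_subgroup A)
    have hwA : zpowers w' ≤ A := zpowers_le.2 (mem_centralizer_singleton_iff.2 rfl)
    have hord' : orderOf w' = orderOf w := Subgroup.orderOf_mk w hwP
    have h2 : 2 < Nat.card A := by
      rcases ho with h | h
      · by_contra hle
        push Not at hle
        have heqA : zpowers w' = A := Subgroup.eq_of_le_of_card_ge hwA (by
          rw [Nat.card_zpowers, hord', h]; exact hle)
        haveI : Nontrivial (P : Subgroup G) := Finite.one_lt_card_iff_nontrivial.1 (by omega)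
        haveI := P.isPGroup'.center_nontrivial
        obtain ⟨z, hz, hz1⟩ := (Subgroup.nontrivial_iff_exists_ne_one _).1 this
        have hzA : z ∈ A := mem_centralizer_singleton_iff.2 (mem_center_iff.1 hz w').symm
        rw [← heqA] at hzA
        obtain ⟨j, hj⟩ := mem_zpowers_iff.1 hzA
        have hzw : z = w' := by
          rcases Int.even_or_odd j with ⟨q, rfl⟩ | ⟨q, rfl⟩
          · exfalso
            refine hz1 ?_
            rw [← hj, ← two_mul, zpow_mul, zpow_two,
              H28.mul_self_of_orderOf_two (hord'.trans h), one_zpow]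
          · rw [← hj, zpow_add_one, zpow_mul, zpow_two,
              H28.mul_self_of_orderOf_two (hord'.trans h), one_zpow, one_mul]
        have htop : A = ⊤ := eq_top_iff.2 fun p _ => mem_centralizer_singleton_iff.2 (by
          rw [← hzw]; exact mem_center_iff.1 hz p)
        rw [htop, Subgroup.card_top] at hA4le
        omega
      · have := Subgroup.card_le_of_le hwA
        rw [Nat.card_zpowers, hord', h] at this
        omega
    rw [he] at h2 hA4le ⊢
    have he2 : e = 2 := by
      rcases Nat.lt_trichotomy e 2 with hlt | heq | hgt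
      · interval_cases e <;> norm_num at h2
      · exact heq
      · have := Nat.pow_le_pow_right two_pos (show 3 ≤ e from hgt)
        norm_num at this
        omega
    rw [he2]
  have hCA : centralizer (A : Set (P : Subgroup G)) = A := by
    haveI := IsPGroup.isMulCommutative_of_card_eq_prime_sq hA
    refine le_antisymm ?_ ?_
    · intro x hx
      exact mem_centralizer_singleton_iff.2
        (mem_centralizer_iff.1 hx w' (mem_centralizer_singleton_iff.2 rfl)).symm
    · intro x hx
      rw [mem_centralizer_iff]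
      exact fun z hz => congrArg Subtype.val (mul_comm' (⟨z, hz⟩ : A) ⟨x, hx⟩)
  have hclass := H24.class_eq_of_self_centralizing (P : Subgroup G) 2 k hk A hA hCA
  rcases H24.two_group_max_class hk3 hk (fun {_} => hclass) with ⟨m, ⟨e⟩⟩ | ⟨m, ⟨e⟩⟩ | hq
  · -- dihedral
    haveI : Finite (DihedralGroup m) := Finite.of_equiv _ e.toEquiv
    have hcardm : 2 * m = 2 ^ k := by
      rw [← hk, Nat.card_congr e.toEquiv, DihedralGroup.nat_card]
    have hm4 : 4 ≤ m := by
      have : 8 ≤ 2 ^ k := (Nat.pow_le_pow_right two_pos hk3).trans_eq' (by norm_num)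
      omega
    haveI : NeZero m := ⟨by omega⟩
    have hrot : ∀ (v : G) (hv : v ∈ (P : Subgroup G)) (i : ZMod m),
        e ⟨v, hv⟩ = DihedralGroup.r i → Nat.card (centralizer ({v} : Set G)) ≤ 4 →
        m ≤ Nat.card (centralizer ({v} : Set G)) := by
      intro v hv i hi _
      set r : (P : Subgroup G) := e.symm (DihedralGroup.r 1)
      have hr : orderOf (r : G) = m := by
        rw [Subgroup.orderOf_coe, MulEquiv.orderOf_eq, DihedralGroup.orderOf_r_one]
      rw [← hr]
      refine card_centralizer_le_of_pow v (r : G) ?_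
      have : (⟨v, hv⟩ : (P : Subgroup G)) * r = r * ⟨v, hv⟩ := e.injective (by
        rw [map_mul, map_mul, hi, e.apply_symm_apply, DihedralGroup.r_mul_r,
          DihedralGroup.r_mul_r, add_comm])
      exact congrArg Subtype.val this
    rcases ho with ho | ho
    · exfalso
      obtain ⟨z, hz⟩ : ∃ z : (P : Subgroup G), z = e.symm (DihedralGroup.r ((m / 2 : ℕ) : ZMod m)) :=
        ⟨_, rfl⟩
      have hm2 : m / 2 + m / 2 = m := by
        obtain ⟨k', rfl⟩ : ∃ k', k = k' + 1 := ⟨k - 1, by omega⟩
        rw [pow_succ] at hcardm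
        have h1 : m = 2 ^ k' := by omega
        obtain ⟨k'', rfl⟩ : ∃ k'', k' = k'' + 1 := ⟨k' - 1, by omega⟩
        rw [h1, pow_succ]
        omega
      have hzo : orderOf (z : G) = 2 := by
        rw [Subgroup.orderOf_coe, hz, MulEquiv.orderOf_eq]
        refine H28.orderOf_two_of_mul_self ?_ ?_
        · rw [DihedralGroup.r_mul_r, ← Nat.cast_add, hm2, ZMod.natCast_self, DihedralGroup.r_zero]
        · rw [← DihedralGroup.r_zero]
          intro h
          have := congrArg ZMod.val (DihedralGroup.r.inj h)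
          rw [ZMod.val_natCast, Nat.mod_eq_of_lt (by omega), ZMod.val_zero] at this
          omega
      have hconj := H77.isConj_of_dihedral_simple P (by omega) e hzo ho
      have hzc : (P : Subgroup G) ≤ centralizer ({(z : G)} : Set G) := by
        intro p hp
        rw [mem_centralizer_singleton_iff]
        have : (⟨p, hp⟩ : (P : Subgroup G)) * z = z * ⟨p, hp⟩ := e.injective (by
          rw [map_mul, map_mul, hz, e.apply_symm_apply]
          have hneg : -((m / 2 : ℕ) : ZMod m) = ((m / 2 : ℕ) : ZMod m) := by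
            rw [neg_eq_iff_add_eq_zero, ← Nat.cast_add, hm2, ZMod.natCast_self]
          rcases e ⟨p, hp⟩ with i | i
          · rw [DihedralGroup.r_mul_r, DihedralGroup.r_mul_r, add_comm]
          · rw [DihedralGroup.sr_mul_r, DihedralGroup.r_mul_sr, sub_eq_add_neg, hneg])
        exact congrArg Subtype.val this
      have h1 := Subgroup.card_le_of_le hzc
      rw [H26.card_centralizer_eq_of_isConj hconj, hc] at h1
      omega
    · have hcent : Nat.card (centralizer ({w} : Set G)) = 4 := by
        rw [ho] at hdvd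
        have := Nat.le_of_dvd hpos hdvd
        omega
      obtain ⟨i, hi⟩ : ∃ i, e ⟨w, hwP⟩ = DihedralGroup.r i := by
        cases h : e ⟨w, hwP⟩ with
        | r i => exact ⟨i, rfl⟩
        | sr i =>
          exfalso
          have h1 : orderOf (e ⟨w, hwP⟩) = 4 := by
            rw [MulEquiv.orderOf_eq, Subgroup.orderOf_mk, ho]
          rw [h, DihedralGroup.orderOf_sr] at h1
          omega
      have hm : m = 4 := by
        have := hrot w hwP i hi (by omega)
        omega
      subst hm
      obtain ⟨τ, D⟩ := H56.exists_dihSylow P le_rfl ⟨(by norm_num : (4 : ℕ) = 2 ^ (3 - 1)) ▸ e⟩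
        hwP (by rw [ho]; norm_num)
      obtain ⟨R⟩ := D.exists_retr
      haveI := Fintype.ofFinite G
      have hJ : orderOf (w ^ 2) = 2 := by
        have h := D.orderOf_centInv
        rw [H56.centInv] at h
        norm_num at h
        exact h
      refine Or.inr (Or.inr ⟨P, w, τ, R, ⟨D, hcent, ?_, ?_, ?_⟩⟩)
      · exact H77.isConj_of_dihedral_simple P (by norm_num) e hJ D.ordτ
      · exact H77.isConj_of_dihedral_simple P (by norm_num) e hJ
          (by simpa using (D.shift 1).ordτ)
      · -- fixed-point-free action on the core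
        have hwC : w ∈ centralizer ({H56.centInv w 3} : Set G) := by
          rw [mem_centralizer_singleton_iff]
          exact ((Commute.refl w).pow_right _).eq
        have hconjK : ∀ k ∈ R.K, w * k * w⁻¹ ∈ R.K := by
          intro k hk
          have hkC := R.K_le hk
          refine (R.π_ker _ (mul_mem (mul_mem hwC hkC) (inv_mem hwC))).1 ?_
          rw [R.π_conj hwC hkC, R.π_of_mem hk, mul_one, mul_inv_cancel]
        have hfix : ∀ k ∈ R.K, w * k * w⁻¹ = k → k = 1 := by
          intro k hk hwk
          have hkC : k ∈ centralizer ({w} : Set G) := by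
            rw [mem_centralizer_singleton_iff]
            exact (mul_inv_eq_iff_eq_mul.1 hwk).symm
          refine orderOf_eq_one_iff.1 ?_
          have h1 : orderOf k ∣ 4 := by
            rw [← hcent, ← Subgroup.orderOf_mk k hkC]
            exact orderOf_dvd_natCard _
          exact Nat.eq_one_of_dvd_coprimes (show Nat.Coprime 4 (orderOf k) by
            rw [show (4 : ℕ) = 2 ^ 2 by norm_num]
            exact (Nat.coprime_two_left.2 (R.odd_orderOf hk)).pow_left 2) h1 dvd_rfl
        have hw2K : ∀ k ∈ R.K, w * (w * k * w⁻¹) * w⁻¹ = k := by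
          intro k hk
          have h := mem_centralizer_singleton_iff.1 (R.K_le hk)
          change k * w ^ 2 = w ^ 2 * k at h
          rw [show w * (w * k * w⁻¹) * w⁻¹ = w ^ 2 * k * (w ^ 2)⁻¹ by
            rw [pow_two]; group, ← h,
            mul_inv_cancel_right]
        let ψ : R.K → R.K := fun k =>
          ⟨(k : G)⁻¹ * (w * k * w⁻¹), mul_mem (inv_mem k.2) (hconjK k k.2)⟩
        have hψ : Function.Injective ψ := by
          intro a b h
          have h' : (a : G)⁻¹ * (w * a * w⁻¹) = (b : G)⁻¹ * (w * b * w⁻¹) := congrArg Subtype.val h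
          have h1 := hfix _ (mul_mem b.2 (inv_mem a.2)) (by
            calc w * ((b : G) * (a : G)⁻¹) * w⁻¹
                = w * b * w⁻¹ * (w * a * w⁻¹)⁻¹ := by group
              _ = b * ((b : G)⁻¹ * (w * b * w⁻¹)) * ((a : G) * ((a : G)⁻¹ * (w * a * w⁻¹)))⁻¹ := by
                group
              _ = (b : G) * (a : G)⁻¹ := by rw [h']; group)
          exact Subtype.ext (mul_inv_eq_one.1 h1).symm
        intro k hk
        obtain ⟨a, ha⟩ := (Finite.injective_iff_surjective.1 hψ) ⟨k, hk⟩
        have ha' : (a : G)⁻¹ * (w * a * w⁻¹) = k := congrArg Subtype.val ha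
        rw [← ha', show w * ((a : G)⁻¹ * (w * a * w⁻¹)) * w⁻¹ =
          (w * a * w⁻¹)⁻¹ * (w * (w * a * w⁻¹) * w⁻¹) by group, hw2K a a.2]
        group
  · exact (no_quaternion hG P e).elim
  · exact (no_quasiDihedral hG P hq hwP ho (hc.trans_le hw)).elim

end Cfsg.Agent.H69.Small4
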