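import Cfsg.Agent.H56.DihOrder
import Cfsg.Agent.H56.DihPrincipal
import Cfsg.Agent.H38.ClassCoeff
import Cfsg.Agent.H42.MaxIdeal
import Cfsg.Agent.H43.LinearTwist
import Cfsg.Agent.H43.CharTools

/-!
# Dihedral Sylow 2-subgroup of order eight with a self-centralizing element of order four

The four characters which do not vanish at such an element.
-/

set_option autoImplicit false
set_option linter.style.haveILetI false
set_option linter.unusedSectionVars false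

open scoped ComplexConjugate

namespace Cfsg.Agent.H69.Small4

open Cfsg.Agent Subgroup

variable {G : Type*} [Group G]

/-- The four irreducible characters not vanishing at `σ`, with their values at `σ` and `σ ^ 2`. -/
structure Four (M : Ideal Cfsg.AlgInt) (σ : G) where
  χ₁ : Cfsg.IrrCharacter G
  χ₂ : Cfsg.IrrCharacter G
  χ₃ : Cfsg.IrrCharacter G
  δ₁ : ℤ
  δ₂ : ℤ
  δ₃ : ℤ
  h₁ : δ₁ = 1 ∨ δ₁ = -1
  h₂ : δ₂ = 1 ∨ δ₂ = -1
  h₃ : δ₃ = 1 ∨ δ₃ = -1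
  ne₁ : χ₁ ≠ H26.oneIrr G
  ne₂ : χ₂ ≠ H26.oneIrr G
  ne₃ : χ₃ ≠ H26.oneIrr G
  ne₁₂ : χ₁ ≠ χ₂
  ne₁₃ : χ₁ ≠ χ₃
  ne₂₃ : χ₂ ≠ χ₃
  mem₁ : χ₁ ∈ Cfsg.principalBlock M G
  const₁ : ∀ l : ℕ, 0 < l → l < 4 → χ₁.1 (σ ^ l) = δ₁
  s₁ : χ₁.1 σ = δ₁
  s₂ : χ₂.1 σ = δ₂
  s₃ : χ₃.1 σ = δ₃
  J₁ : χ₁.1 (σ ^ 2) = δ₁
  J₂ : χ₂.1 (σ ^ 2) = -δ₂
  J₃ : χ₃.1 (σ ^ 2) = -δ₃
  zero : ∀ χ : Cfsg.IrrCharacter G, χ.1 σ ≠ 0 →
    χ = H26.oneIrr G ∨ χ = χ₁ ∨ χ = χ₂ ∨ χ = χ₃

namespace Four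

variable {M : Ideal Cfsg.AlgInt} {σ : G} (F : Four M σ)

/-- Exchange the second and the third character. -/
def swap : Four M σ where
  χ₁ := F.χ₁
  χ₂ := F.χ₃
  χ₃ := F.χ₂
  δ₁ := F.δ₁
  δ₂ := F.δ₃
  δ₃ := F.δ₂
  h₁ := F.h₁
  h₂ := F.h₃
  h₃ := F.h₂
  ne₁ := F.ne₁
  ne₂ := F.ne₃
  ne₃ := F.ne₂
  ne₁₂ := F.ne₁₃
  ne₁₃ := F.ne₁₂
  ne₂₃ := F.ne₂₃.symm
  mem₁ := F.mem₁
  const₁ := F.const₁
  s₁ := F.s₁
  s₂ := F.s₃
  s₃ := F.s₂
  J₁ := F.J₁
  J₂ := F.J₃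
  J₃ := F.J₂
  zero := fun χ h => by
    rcases F.zero χ h with h | h | h | h
    · exact Or.inl h
    · exact Or.inr (Or.inl h)
    · exact Or.inr (Or.inr (Or.inr h))
    · exact Or.inr (Or.inr (Or.inl h))

variable [Finite G]

/-- The signed degrees. -/
noncomputable def e₁ : ℤ := F.δ₁ * (Cfsg.charDegree F.χ₁.1 : ℤ)

/-- The signed degree of the second character. -/
noncomputable def e₂ : ℤ := F.δ₂ * (Cfsg.charDegree F.χ₂.1 : ℤ)

/-- The signed degree of the third character. -/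
noncomputable def e₃ : ℤ := F.δ₃ * (Cfsg.charDegree F.χ₃.1 : ℤ)

theorem sum_eq [Fintype G] (f : Cfsg.IrrCharacter G → ℂ) :
    ∑ χ : Cfsg.IrrCharacter G, f χ * conj (χ.1 σ) =
      f (H26.oneIrr G) + F.δ₁ * f F.χ₁ + F.δ₂ * f F.χ₂ + F.δ₃ * f F.χ₃ := by
  classical
  rw [← Finset.sum_subset (Finset.subset_univ {H26.oneIrr G, F.χ₁, F.χ₂, F.χ₃}) fun χ _ hχ => ?_]
  · rw [Finset.sum_insert, Finset.sum_insert, Finset.sum_pair F.ne₂₃, H26.oneIrr_val, map_one,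
      mul_one, F.s₁, F.s₂, F.s₃]
    · simp only [map_intCast]
      ring
    · simp [F.ne₁₂, F.ne₁₃]
    · simp [F.ne₁.symm, F.ne₂.symm, F.ne₃.symm]
  · rw [mul_eq_zero, map_eq_zero]
    refine Or.inr (by_contra fun h => hχ ?_)
    rcases F.zero χ h with rfl | rfl | rfl | rfl <;> simp

/-- Column orthogonality with `σ`. -/
theorem column [Fintype G] {g : G} (hg : ¬ IsConj g σ) :
    1 + F.δ₁ * F.χ₁.1 g + F.δ₂ * F.χ₂.1 g + F.δ₃ * F.χ₃.1 g = 0 := by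
  classical
  have h := F.sum_eq fun χ => χ.1 g
  rw [H26.column_orthogonality g σ, H26.oneIrr_val] at h
  rw [H26.classIndicator, if_neg hg, mul_zero] at h
  exact h.symm

theorem rel (hσ : orderOf σ = 4) : 1 + F.e₁ + F.e₂ + F.e₃ = 0 := by
  haveI := Fintype.ofFinite G
  have h := F.column (g := 1) fun h => by
    have := isConj_one_right.1 h
    rw [this, orderOf_one] at hσ
    omega
  rw [H43.irr_charDegree_spec, H43.irr_charDegree_spec, H43.irr_charDegree_spec] at h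
  unfold e₁ e₂ e₃
  exact_mod_cast h

end Four

theorem sign_div {δ : ℤ} (hδ : δ = 1 ∨ δ = -1) (x : ℕ) :
    (δ : ℂ) / (x : ℂ) = ((δ * (x : ℤ) : ℤ) : ℂ)⁻¹ := by
  rcases hδ with rfl | rfl <;> push_cast <;> simp [inv_neg, neg_div]

variable [Finite G] {P : Sylow 2 G} {σ τ : G}

theorem exists_four (D : H56.DihSylow P σ τ 3)
    (hC : Nat.card (centralizer ({σ} : Set G)) = 4) (M : Ideal Cfsg.AlgInt)
    (hM : Cfsg.IsPModular 2 M) : Nonempty (Four M σ) := by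
  classical
  haveI := Fintype.ofFinite G
  have hI : IsPrimitiveRoot Complex.I (2 ^ (3 - 1)) := by
    have h := H56.zeta_spec 3
    have e : H56.zeta 3 = Complex.I := by
      rw [H56.zeta, show (2 * Real.pi * Complex.I / ((2 ^ (3 - 1) : ℕ) : ℂ)) =
        (Real.pi / 2 : ℂ) * Complex.I by push_cast; ring, Complex.exp_mul_I]
      simp
    rwa [e] at h
  obtain ⟨-, χ₁, χ₂, χ₃, χ', δ₁, δ₂, δ₃, h₁, h₂, h₃, -, n₁, n₂, n₃, n₁₂, n₁₃, n₂₃, -, hB, hv, -⟩ :=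
    H56.dihedral_principal_block M hM le_rfl D hI
  have v1 := hv 1 one_pos (by norm_num)
  have v2 := hv 2 two_pos (by norm_num)
  simp only [pow_one] at v1
  norm_num at v1 v2
  have hone : ∀ χ : Cfsg.IrrCharacter G, (χ : G → ℂ) ≠ (fun _ => 1) → χ ≠ H26.oneIrr G :=
    fun χ h e => h (by rw [e]; rfl)
  refine ⟨⟨χ₁, χ₂, χ₃, δ₁, δ₂, δ₃, h₁, h₂, h₃, hone _ n₁, hone _ n₂, hone _ n₃, n₁₂, n₁₃, n₂₃, ?_,
    fun l hl hl' => (hv l hl (by omega)).1, v1.1, v1.2.1, v1.2.2.1, v2.1, v2.2.1, v2.2.2.1, ?_⟩⟩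
  · rw [hB]
    exact Or.inr (Or.inl rfl)
  · intro χ hχ
    by_contra hno
    push Not at hno
    have h := H26.column_orthogonality σ σ
    rw [hC] at h
    simp only [H26.classIndicator, if_pos (IsConj.refl σ), mul_one, Complex.mul_conj] at h
    have h' : ∑ ψ : Cfsg.IrrCharacter G, Complex.normSq (ψ.1 σ) = 4 := by exact_mod_cast h
    have hle := Finset.sum_le_univ_sum_of_nonneg
      (s := {χ, H26.oneIrr G, χ₁, χ₂, χ₃}) (f := fun ψ : Cfsg.IrrCharacter G => Complex.normSq (ψ.1 σ))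
      (fun ψ => Complex.normSq_nonneg _)
    rw [h', Finset.sum_insert, Finset.sum_insert, Finset.sum_insert, Finset.sum_pair n₂₃] at hle
    · rw [H26.oneIrr_val, v1.1, v1.2.1, v1.2.2.1] at hle
      have hpos : 0 < Complex.normSq (χ.1 σ) := Complex.normSq_pos.2 hχ
      rcases h₁ with rfl | rfl <;> rcases h₂ with rfl | rfl <;> rcases h₃ with rfl | rfl <;>
        norm_num at hle <;> linarith
    · simp [n₁₂, n₁₃]
    · simp [(hone _ n₁).symm, (hone _ n₂).symm, (hone _ n₃).symm]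
    · simp [hno.1, hno.2.1, hno.2.2.1, hno.2.2.2]

theorem conj_cube (D : H56.DihSylow P σ τ 3) : IsConj σ (σ ^ 3) := by
  refine isConj_iff.2 ⟨τ, ?_⟩
  rw [D.inv, inv_eq_iff_mul_eq_one, ← pow_succ']
  exact orderOf_dvd_iff_pow_eq_one.1 (by rw [D.ordσ]; norm_num)

/-- Reflections two steps apart are conjugate. -/
theorem conj_refl_two (D : H56.DihSylow P σ τ 3) (i : ℕ) :
    IsConj (σ ^ i * τ) (σ ^ (i + 2) * τ) := by
  refine isConj_iff.2 ⟨σ, ?_⟩
  have h : τ * σ⁻¹ = σ * τ := by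
    have := D.tau_pow 1
    simp only [pow_one] at this
    calc τ * σ⁻¹ = τ * (τ * σ * τ⁻¹) := by rw [this]
      _ = σ * τ := by rw [← mul_assoc, ← mul_assoc, D.tau_mul, one_mul, D.tau_inv]
  calc σ * (σ ^ i * τ) * σ⁻¹ = σ * σ ^ i * (τ * σ⁻¹) := by group
    _ = σ ^ (i + 2) * τ := by rw [h, ← pow_succ', ← mul_assoc, ← pow_succ]

/-- The restriction of a character to the Sylow subgroup. -/
theorem sum_sylow (D : H56.DihSylow P σ τ 3) (χ : Cfsg.IrrCharacter G) :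
    ∃ c : ℕ, χ.1 1 + χ.1 σ + χ.1 (σ ^ 2) + χ.1 (σ ^ 3) + χ.1 τ + χ.1 (σ * τ) + χ.1 (σ ^ 2 * τ) +
      χ.1 (σ ^ 3 * τ) = 8 * (c : ℂ) := by
  classical
  haveI := Fintype.ofFinite G
  haveI := Fintype.ofFinite (P : Subgroup G)
  obtain ⟨c, hc⟩ := H26.exists_nat_classInner_irr
    (H26.isCharacter_comp (H26.irr_isCharacter χ) (P : Subgroup G).subtype) (H26.oneIrr _)
  have hcard : Nat.card (P : Subgroup G) = 8 := by rw [D.card_P]; norm_num
  let f : Fin 4 × Bool → (P : Subgroup G) := fun x =>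
    ⟨σ ^ (x.1 : ℕ) * if x.2 then τ else 1, mul_mem (pow_mem D.memσ _) (by
      split_ifs
      · exact D.memτ
      · exact one_mem _)⟩
  have hinj : Function.Injective f := by
    rintro ⟨i, u⟩ ⟨j, v⟩ h
    have h' := congrArg Subtype.val h
    simp only [f] at h'
    have hij : ∀ h'' : σ ^ (i : ℕ) = σ ^ (j : ℕ), i = j := fun h'' =>
      Fin.ext (pow_injOn_Iio_orderOf (by rw [D.ordσ]; simp [i.2]) (by rw [D.ordσ]; simp [j.2]) h'')
    cases u <;> cases v <;> simp only [Bool.false_eq_true, if_false, if_true, mul_one] at h'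
    · rw [hij h']
    · exact absurd (h' ▸ npow_mem_zpowers σ _) (D.pow_mul_tau_not_mem _)
    · exact absurd (h' ▸ npow_mem_zpowers σ _ : σ ^ (i : ℕ) * τ ∈ zpowers σ)
        (D.pow_mul_tau_not_mem _)
    · rw [hij (mul_right_cancel h')]
  have hbij : Function.Bijective f :=
    (Fintype.bijective_iff_injective_and_card f).2 ⟨hinj, by
      rw [← Nat.card_eq_fintype_card (α := (P : Subgroup G)), hcard]; simp⟩
  refine ⟨c, ?_⟩
  rw [Cfsg.classInner] at hc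
  simp only [Function.comp_apply, Subgroup.coe_subtype, H26.oneIrr_val, map_one, mul_one] at hc
  rw [← Equiv.sum_comp (Equiv.ofBijective f hbij), Fintype.sum_prod_type, hcard] at hc
  simp only [Equiv.ofBijective_apply, f, Fintype.sum_bool, Bool.false_eq_true, if_false, if_true,
    mul_one, Fin.sum_univ_four, Fin.val_zero, Fin.val_one, Fin.val_two, pow_zero, one_mul,
    pow_one, Fin.isValue, show ((3 : Fin 4) : ℕ) = 3 from rfl] at hc
  rw [← hc]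
  push_cast
  ring

/-- Involutions inverting `σ` are reflections. -/
theorem eq_refl_of_inverts (D : H56.DihSylow P σ τ 3)
    (hC : Nat.card (centralizer ({σ} : Set G)) = 4) {u : G} (hu : u * σ * u⁻¹ = σ⁻¹) :
    ∃ i < 4, u = σ ^ i * τ := by
  have hle : zpowers σ ≤ centralizer ({σ} : Set G) :=
    zpowers_le.2 (mem_centralizer_singleton_iff.2 rfl)
  have heq : zpowers σ = centralizer ({σ} : Set G) := by
    refine Subgroup.eq_of_le_of_card_ge hle (le_of_eq ?_)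
    rw [hC, Nat.card_zpowers, D.ordσ]
    norm_num
  have hm : u * τ ∈ centralizer ({σ} : Set G) := by
    rw [mem_centralizer_singleton_iff]
    calc u * τ * σ = u * (τ * σ * τ⁻¹) * τ := by group
      _ = u * σ⁻¹ * τ := by rw [D.inv]
      _ = (u * σ * u⁻¹)⁻¹ * u * τ := by group
      _ = σ * (u * τ) := by rw [hu, inv_inv, mul_assoc]
  rw [← heq] at hm
  obtain ⟨j, hj⟩ := (mem_powers_iff_mem_zpowers).2 hm
  refine ⟨j % 4, Nat.mod_lt _ (by norm_num), ?_⟩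
  have h4 : orderOf σ = 4 := by rw [D.ordσ]; norm_num
  simp only at hj
  rw [← h4, pow_mod_orderOf, hj, mul_assoc, D.tau_mul, mul_one]

end Cfsg.Agent.H69.Small4
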