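import Cfsg.Agent.H69.Small4.Chars
import Cfsg.Agent.S4482

/-!
# The class equations with one class of involutions
-/

set_option autoImplicit false
set_option linter.style.haveILetI false
set_option linter.unusedSectionVars false

open scoped ComplexConjugate

namespace Cfsg.Agent.H69.Small4

open Cfsg.Agent Subgroup

variable {G : Type*} [Group G] [Finite G] {P : Sylow 2 G} {σ τ : G}

theorem card_conj_mul (x : G) :
    Nat.card {y : G // IsConj x y} * Nat.card (centralizer ({x} : Set G)) = Nat.card G := by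
  classical
  haveI := Fintype.ofFinite G
  have h := H26.card_class_mul_card_centralizer x
  rw [← h]
  congr 1
  rw [Nat.card_eq_fintype_card, Fintype.card_subtype]
  congr 1
  ext y
  simp only [Finset.mem_filter, Finset.mem_univ, true_and, ConjClasses.mk_eq_mk_iff_isConj]
  exact isConj_comm

theorem orderOf_sigma (D : H56.DihSylow P σ τ 3) : orderOf σ = 4 := by
  rw [D.ordσ]; norm_num

theorem orderOf_sq (D : H56.DihSylow P σ τ 3) : orderOf (σ ^ 2) = 2 := by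
  have h := D.orderOf_centInv
  rw [H56.centInv] at h
  norm_num at h
  exact h

/-- The number of ways of writing `σ` as a product of two elements, when the first inverts it. -/
theorem card_pairs (D : H56.DihSylow P σ τ 3) (p : G → Prop) (s : Finset ℕ)
    (hs : ∀ i ∈ s, i < 4)
    (hiff : ∀ u : G, p u ↔ ∃ i ∈ s, u = σ ^ i * τ) :
    Nat.card {x : G × G // p x.1 ∧ x.1 * x.2 = σ} = s.card := by
  classical
  rw [← Nat.card_eq_finsetCard]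
  refine (Nat.card_eq_of_bijective
    (fun i : s => (⟨(σ ^ (i : ℕ) * τ, (σ ^ (i : ℕ) * τ)⁻¹ * σ), (hiff _).2 ⟨i, i.2, rfl⟩,
      mul_inv_cancel_left _ _⟩ : {x : G × G // p x.1 ∧ x.1 * x.2 = σ})) ⟨?_, ?_⟩).symm
  · intro i j h
    have h1 := mul_right_cancel (congrArg (fun x => x.1.1) h)
    exact Subtype.ext (pow_injOn_Iio_orderOf (by rw [orderOf_sigma D]; exact hs i i.2)
      (by rw [orderOf_sigma D]; exact hs j j.2) h1)
  · rintro ⟨⟨u, v⟩, hu, huv⟩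
    obtain ⟨i, hi, rfl⟩ := (hiff u).1 hu
    refine ⟨⟨i, hi⟩, Subtype.ext (Prod.ext rfl ?_)⟩
    simp only at huv ⊢
    exact (eq_inv_mul_iff_mul_eq.2 huv).symm

/-- The second factor of such a product is again a reflection. -/
theorem refl_inv_mul (D : H56.DihSylow P σ τ 3) (i : ℕ) :
    (σ ^ i * τ)⁻¹ * σ = σ ^ (i + 3) * τ := by
  rw [inv_eq_of_mul_eq_one_right (D.refl_mul_self i)]
  have h : τ * σ = σ ^ 3 * τ := by
    have h1 : σ⁻¹ = σ ^ 3 := inv_eq_of_mul_eq_one_right (by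
      rw [← pow_succ']; exact orderOf_dvd_iff_pow_eq_one.1 (by rw [orderOf_sigma D]))
    have h2 := D.inv
    rw [mul_inv_eq_iff_eq_mul, h1] at h2
    exact h2
  rw [mul_assoc, h, ← mul_assoc, ← pow_add]

theorem all_refl_conj (D : H56.DihSylow P σ τ 3) (h0 : IsConj (σ ^ 2) τ)
    (h1 : IsConj (σ ^ 2) (σ * τ)) (i : ℕ) : IsConj (σ ^ 2) (σ ^ i * τ) := by
  induction i using Nat.twoStepInduction with
  | zero => rwa [pow_zero, one_mul]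
  | one => rwa [pow_one]
  | more i ih _ => exact ih.trans (conj_refl_two D i)

theorem inverts_of_pair {u v : G} (hu : u * u = 1) (hv : v * v = 1) (huv : u * v = σ) :
    u * σ * u⁻¹ = σ⁻¹ := by
  rw [← huv, mul_inv_rev, inv_eq_of_mul_eq_one_right hu, inv_eq_of_mul_eq_one_right hv,
    ← mul_assoc, hu, one_mul]

theorem sq_of_conj {x y : G} (h : IsConj x y) (hx : x * x = 1) : y * y = 1 := by
  obtain ⟨c, rfl⟩ := isConj_iff.1 h
  rw [show c * x * c⁻¹ * (c * x * c⁻¹) = c * (x * x) * c⁻¹ by group, hx, mul_one, mul_inv_cancel]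

theorem e_one_mod_eight (D : H56.DihSylow P σ τ 3) {M : Ideal Cfsg.AlgInt} (F : Four M σ)
    (h0 : IsConj (σ ^ 2) τ) (h1 : IsConj (σ ^ 2) (σ * τ)) :
    (∃ h, F.e₁ = 1 + 8 * h) ∧ (∃ h, F.e₂ = 3 + 8 * h) ∧ ∃ h, F.e₃ = 3 + 8 * h := by
  have key : ∀ (χ : Cfsg.IrrCharacter G) (a b : ℤ), χ.1 σ = (a : ℂ) → χ.1 (σ ^ 2) = (b : ℂ) →
      ∃ c : ℕ, (Cfsg.charDegree χ.1 : ℤ) + 2 * a + 5 * b = 8 * c := by
    intro χ a b ha hb
    obtain ⟨c, hc⟩ := sum_sylow D χ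
    have hr : ∀ i, χ.1 (σ ^ i * τ) = b := fun i => by
      rw [← H26.irr_eq_of_isConj χ (all_refl_conj D h0 h1 i), hb]
    have r0 := hr 0
    have r1 := hr 1
    rw [pow_zero, one_mul] at r0
    rw [pow_one] at r1
    rw [r0, r1, hr 2, hr 3, ← H26.irr_eq_of_isConj χ (conj_cube D), ha, hb,
      H43.irr_charDegree_spec] at hc
    refine ⟨c, ?_⟩
    have : (Cfsg.charDegree χ.1 : ℂ) + 2 * a + 5 * b = 8 * c := by linear_combination hc
    exact_mod_cast this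
  refine ⟨?_, ?_, ?_⟩
  · obtain ⟨c, hc⟩ := key F.χ₁ F.δ₁ F.δ₁ F.s₁ F.J₁
    refine ⟨F.δ₁ * c - 1, ?_⟩
    unfold Four.e₁
    rcases F.h₁ with h | h <;> rw [h] at hc ⊢ <;> omega
  · obtain ⟨c, hc⟩ := key F.χ₂ F.δ₂ (-F.δ₂) F.s₂ (by rw [F.J₂]; push_cast; ring)
    refine ⟨F.δ₂ * c, ?_⟩
    unfold Four.e₂
    rcases F.h₂ with h | h <;> rw [h] at hc ⊢ <;> omega
  · obtain ⟨c, hc⟩ := key F.χ₃ F.δ₃ (-F.δ₃) F.s₃ (by rw [F.J₃]; push_cast; ring)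
    refine ⟨F.δ₃ * c, ?_⟩
    unfold Four.e₃
    rcases F.h₃ with h | h <;> rw [h] at hc ⊢ <;> omega

/-- The three equations for one class of involutions. -/
theorem equations (D : H56.DihSylow P σ τ 3) (R : H56.CentRetr P (H56.centInv σ 3))
    (hC : Nat.card (centralizer ({σ} : Set G)) = 4)
    (hK : Nat.card R.K = R.kap τ * R.kap (σ * τ))
    (h0 : IsConj (σ ^ 2) τ) (h1 : IsConj (σ ^ 2) (σ * τ)) :
    ∃ e d₂ d₃ N h α β : ℤ, h ≠ 0 ∧ e = 1 + 8 * h ∧ d₂ = 4 * α - 1 ∧ d₃ = 4 * β - 1 ∧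
      Odd α ∧ Odd β ∧ 1 + e + d₂ + d₃ = 0 ∧
      (Nat.card G : ℤ) * (1 + e) * (d₂ * d₃ - e) =
        256 * (R.kap τ : ℤ) ^ 2 * (R.kap (σ * τ) : ℤ) ^ 2 * (e * (d₂ * d₃)) ∧
      (Nat.card G : ℤ) * (1 + e) * (d₂ * d₃ + e) =
        32 * (R.kap τ : ℤ) * (R.kap (σ * τ) : ℤ) * N * (e * (d₂ * d₃)) ∧
      (Nat.card G : ℤ) * (e - 1) ^ 2 = 64 * (R.kap τ : ℤ) * (R.kap (σ * τ) : ℤ) *
        ((R.kap τ : ℤ) + R.kap (σ * τ)) ^ 2 * (e * (e + 1)) := by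
  classical
  haveI := Fintype.ofFinite G
  obtain ⟨M, hM⟩ := H42.exists_isPModular Nat.prime_two
  obtain ⟨F⟩ := exists_four D hC M hM
  obtain ⟨⟨h, he⟩, ⟨α', hα⟩, ⟨β', hβ⟩⟩ := e_one_mod_eight D F h0 h1
  have hrel := F.rel (orderOf_sigma D)
  have hJ2 : σ ^ 2 * σ ^ 2 = 1 := H28.mul_self_of_orderOf_two (orderOf_sq D)
  have hcJ : Nat.card (centralizer ({σ ^ 2} : Set G)) = 8 * (R.kap τ * R.kap (σ * τ)) := by
    have := D.card_centralizer R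
    rw [hK] at this
    rw [show σ ^ 2 = H56.centInv σ 3 from rfl, this]
    norm_num
  have hka : 0 < R.kap τ := Nat.card_pos
  have hkb : 0 < R.kap (σ * τ) := Nat.card_pos
  have hclJ : (Nat.card {y : G // IsConj (σ ^ 2) y} : ℂ) *
      (8 * ((R.kap τ : ℂ) * R.kap (σ * τ))) = Nat.card G := by
    have := card_conj_mul (σ ^ 2)
    rw [hcJ] at this
    exact_mod_cast this
  have hclσ : (Nat.card {y : G // IsConj σ y} : ℂ) * 4 = Nat.card G := by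
    have := card_conj_mul σ
    rw [hC] at this
    exact_mod_cast this
  set g : ℂ := (Nat.card G : ℂ) with hgdef
  have hg0 : g ≠ 0 := Nat.cast_ne_zero.2 Nat.card_pos.ne'
  -- the degrees
  have hd : ∀ χ : Cfsg.IrrCharacter G, (Cfsg.charDegree χ.1 : ℂ) ≠ 0 := fun χ => by
    rw [← H43.irr_charDegree_spec]; exact H26.irr_one_ne_zero χ
  have n1 : (F.e₁ : ℂ) ≠ 0 := Int.cast_ne_zero.2 (by omega)
  have n2 : (F.e₂ : ℂ) ≠ 0 := Int.cast_ne_zero.2 (by omega)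
  have n3 : (F.e₃ : ℂ) ≠ 0 := Int.cast_ne_zero.2 (by omega)
  have i1 := sign_div F.h₁ (Cfsg.charDegree F.χ₁.1)
  have i2 := sign_div F.h₂ (Cfsg.charDegree F.χ₂.1)
  have i3 := sign_div F.h₃ (Cfsg.charDegree F.χ₃.1)
  change _ = ((F.e₁ : ℤ) : ℂ)⁻¹ at i1
  change _ = ((F.e₂ : ℤ) : ℂ)⁻¹ at i2
  change _ = ((F.e₃ : ℤ) : ℂ)⁻¹ at i3
  have q1 : (F.δ₁ : ℂ) * F.δ₁ = 1 := by rcases F.h₁ with h | h <;> rw [h] <;> norm_num
  have q2 : (F.δ₂ : ℂ) * F.δ₂ = 1 := by rcases F.h₂ with h | h <;> rw [h] <;> norm_num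
  have q3 : (F.δ₃ : ℂ) * F.δ₃ = 1 := by rcases F.h₃ with h | h <;> rw [h] <;> norm_num
  have hrelC : (1 : ℂ) + F.e₁ + F.e₂ + F.e₃ = 0 := by exact_mod_cast hrel
  -- pairs of involutions with product `σ`
  have hE : (Nat.card {x : G × G // IsConj (σ ^ 2) x.1 ∧ IsConj (σ ^ 2) x.2 ∧ x.1 * x.2 = σ}) = 4 := by
    have := card_pairs D (fun u => IsConj (σ ^ 2) u ∧ IsConj (σ ^ 2) (u⁻¹ * σ)) (Finset.range 4)
      (fun i hi => Finset.mem_range.1 hi) (fun u => ⟨fun ⟨h', h''⟩ => ?_, ?_⟩)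
    · rw [Finset.card_range] at this
      rw [← this]
      refine Nat.card_congr (Equiv.subtypeEquivRight fun x => ?_)
      constructor
      · rintro ⟨a1, a2, a3⟩
        exact ⟨⟨a1, (eq_inv_mul_iff_mul_eq.2 a3 : x.2 = x.1⁻¹ * σ) ▸ a2⟩, a3⟩
      · rintro ⟨⟨a1, a2⟩, a3⟩
        exact ⟨a1, (eq_inv_mul_iff_mul_eq.2 a3 : x.2 = x.1⁻¹ * σ).symm ▸ a2, a3⟩
    · obtain ⟨i, hi, rfl⟩ := eq_refl_of_inverts D hC (inverts_of_pair (sq_of_conj h' hJ2)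
        (sq_of_conj h'' hJ2) (mul_inv_cancel_left u σ))
      exact ⟨i, Finset.mem_range.2 hi, rfl⟩
    · rintro ⟨i, -, rfl⟩
      exact ⟨all_refl_conj D h0 h1 i, by rw [refl_inv_mul D i]; exact all_refl_conj D h0 h1 _⟩
  obtain ⟨N, hN⟩ : ∃ N : ℕ, N = Nat.card {x : G × G // IsConj (σ ^ 2) x.1 ∧ IsConj σ x.2 ∧
    x.1 * x.2 = σ} := ⟨_, rfl⟩
  have eqE := H38.class_coeff (σ ^ 2) (σ ^ 2) σ
  have eqN := H38.class_coeff (σ ^ 2) σ σ
  rw [hE] at eqE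
  rw [← hN] at eqN
  have sE : ∑ χ : Cfsg.IrrCharacter G, χ.1 (σ ^ 2) * χ.1 (σ ^ 2) * conj (χ.1 σ) / χ.1 1 =
      1 + (F.e₁ : ℂ)⁻¹ + (F.e₂ : ℂ)⁻¹ + (F.e₃ : ℂ)⁻¹ := by
    have := F.sum_eq fun χ => χ.1 (σ ^ 2) * χ.1 (σ ^ 2) / χ.1 1
    simp only [H26.oneIrr_val, F.J₁, F.J₂, F.J₃, neg_mul_neg, q1, q2, q3, H43.irr_charDegree_spec]
      at this
    rw [← i1, ← i2, ← i3]
    simp only [H43.irr_charDegree_spec]
    refine ((Finset.sum_congr rfl fun χ _ => ?_).trans this).trans ?_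
    · ring
    · ring
  have sN : ∑ χ : Cfsg.IrrCharacter G, χ.1 (σ ^ 2) * χ.1 σ * conj (χ.1 σ) / χ.1 1 =
      1 + (F.e₁ : ℂ)⁻¹ - (F.e₂ : ℂ)⁻¹ - (F.e₃ : ℂ)⁻¹ := by
    have := F.sum_eq fun χ => χ.1 (σ ^ 2) * χ.1 σ / χ.1 1
    simp only [H26.oneIrr_val, F.J₁, F.J₂, F.J₃, F.s₁, F.s₂, F.s₃, neg_mul, q1, q2, q3,
      H43.irr_charDegree_spec] at this
    rw [← i1, ← i2, ← i3]
    simp only [H43.irr_charDegree_spec]
    refine ((Finset.sum_congr rfl fun χ _ => ?_).trans this).trans ?_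
    · ring
    · ring
  rw [sE] at eqE
  rw [sN] at eqN
  obtain ⟨hne, hF⟩ := S4482.result M hM 3 le_rfl P σ τ D.memσ D.memτ D.ordσ D.ordτ D.inv
    (le_antisymm ((closure_le _).2 (by
      rintro x (rfl | rfl)
      · exact D.memσ
      · exact D.memτ)) fun p hp => by
      obtain ⟨i, rfl | rfl⟩ := D.forms p hp
      · exact pow_mem (Subgroup.subset_closure (Set.mem_insert σ _)) i
      · exact mul_mem (pow_mem (Subgroup.subset_closure (Set.mem_insert σ _)) i) (Subgroup.subset_closure (Set.mem_insert_of_mem _ rfl)))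
    ⟨h0, h1⟩ F.χ₁ F.mem₁
    (fun e => F.ne₁ (Subtype.ext e)) F.δ₁ F.h₁ (fun l hl hl' => F.const₁ l hl (by simpa using hl'))
  have hh0 : h ≠ 0 := by
    rintro rfl
    apply hne
    have := he
    unfold Four.e₁ at this
    rcases F.h₁ with h' | h' <;> rw [h'] at this ⊢ <;> omega
  refine ⟨F.e₁, F.e₂, F.e₃, N, h, 1 + 2 * α', 1 + 2 * β', hh0, he, by omega, by omega,
    ⟨α', by ring⟩, ⟨β', by ring⟩, hrel, ?_, ?_, ?_⟩
  · rw [← hgdef] at eqE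
    push_cast at eqE
    have e0 : g * 4 = (Nat.card {y : G // IsConj (σ ^ 2) y} : ℂ) *
        Nat.card {y : G // IsConj (σ ^ 2) y} *
          (1 + (F.e₁ : ℂ)⁻¹ + (F.e₂ : ℂ)⁻¹ + (F.e₃ : ℂ)⁻¹) := by
      rw [eqE]; field_simp
    have e1 : g * (1 + (F.e₁ : ℂ)⁻¹ + (F.e₂ : ℂ)⁻¹ + (F.e₃ : ℂ)⁻¹) =
        256 * (R.kap τ : ℂ) ^ 2 * (R.kap (σ * τ) : ℂ) ^ 2 := by
      refine mul_left_cancel₀ hg0 ?_
      linear_combination -(64 * (R.kap τ : ℂ) ^ 2 * (R.kap (σ * τ) : ℂ) ^ 2) * e0 -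
        ((g + 8 * ((R.kap τ : ℂ) * R.kap (σ * τ)) *
          (Nat.card {y : G // IsConj (σ ^ 2) y} : ℂ)) *
            (1 + (F.e₁ : ℂ)⁻¹ + (F.e₂ : ℂ)⁻¹ + (F.e₃ : ℂ)⁻¹)) * hclJ
    have : g * (1 + (F.e₁ : ℂ)) * ((F.e₂ : ℂ) * F.e₃ - F.e₁) =
        256 * (R.kap τ : ℂ) ^ 2 * (R.kap (σ * τ) : ℂ) ^ 2 * (F.e₁ * (F.e₂ * F.e₃)) := by
      rw [← e1]
      field_simp
      linear_combination -(F.e₁ : ℂ) * hrelC
    rw [hgdef] at this
    exact_mod_cast this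
  · rw [← hgdef] at eqN
    have e0 : g * N = (Nat.card {y : G // IsConj (σ ^ 2) y} : ℂ) * Nat.card {y : G // IsConj σ y} *
          (1 + (F.e₁ : ℂ)⁻¹ - (F.e₂ : ℂ)⁻¹ - (F.e₃ : ℂ)⁻¹) := by
      rw [eqN]; field_simp
    have e1 : g * (1 + (F.e₁ : ℂ)⁻¹ - (F.e₂ : ℂ)⁻¹ - (F.e₃ : ℂ)⁻¹) =
        32 * (R.kap τ : ℂ) * (R.kap (σ * τ) : ℂ) * N := by
      refine mul_left_cancel₀ hg0 ?_
      linear_combination -(32 * (R.kap τ : ℂ) * (R.kap (σ * τ) : ℂ)) * e0 -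
        (1 + (F.e₁ : ℂ)⁻¹ - (F.e₂ : ℂ)⁻¹ - (F.e₃ : ℂ)⁻¹) *
          ((Nat.card {y : G // IsConj σ y} : ℂ) * 4 * hclJ + g * hclσ)
    have : g * (1 + (F.e₁ : ℂ)) * ((F.e₂ : ℂ) * F.e₃ + F.e₁) =
        32 * (R.kap τ : ℂ) * (R.kap (σ * τ) : ℂ) * N * (F.e₁ * (F.e₂ * F.e₃)) := by
      rw [← e1]
      field_simp
      linear_combination (F.e₁ : ℂ) * hrelC
    rw [hgdef] at this
    exact_mod_cast this
  · have c1 : Nat.card (centralizer ({σ ^ 2, τ} : Set G)) = 4 * R.kap τ :=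
      D.card_centralizer_pair R
    have c2 : Nat.card (centralizer ({σ ^ 2, σ * τ} : Set G)) = 4 * R.kap (σ * τ) := by
      have := (D.shift 1).card_centralizer_pair R
      rw [pow_one] at this
      exact this
    norm_num only at hF
    rw [c1, c2, hcJ] at hF
    push_cast at hF
    have : (Nat.card G : ℚ) * ((F.e₁ : ℚ) - 1) ^ 2 = 64 * (R.kap τ : ℚ) * (R.kap (σ * τ) : ℚ) *
        ((R.kap τ : ℚ) + R.kap (σ * τ)) ^ 2 * ((F.e₁ : ℚ) * ((F.e₁ : ℚ) + 1)) := by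
      have k0 : (R.kap τ : ℚ) ≠ 0 := Nat.cast_ne_zero.2 hka.ne'
      have k1 : (R.kap (σ * τ) : ℚ) ≠ 0 := Nat.cast_ne_zero.2 hkb.ne'
      unfold Four.e₁
      push_cast
      rcases F.h₁ with h' | h' <;> rw [h'] at hF ⊢ <;> push_cast at hF ⊢ <;>
        field_simp at hF ⊢
      all_goals
        linear_combination (1 / 16 : ℚ) * hF
    exact_mod_cast this

end Cfsg.Agent.H69.Small4
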