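import Cfsg.Agent.H69.Small4.Outer

/-!
# The normalizer of the fixed points of a reflection on the core
-/

set_option autoImplicit false
set_option linter.style.haveILetI false
set_option linter.unusedSectionVars false

namespace Cfsg.Agent.H69.Small4

open Cfsg.Agent Subgroup

variable {G : Type*} [Group G]

/-- Elements centralizing or inverting a subgroup elementwise. -/
def extCent (A : Subgroup G) : Subgroup G where
  carrier := {g | (∀ a ∈ A, g * a * g⁻¹ = a) ∨ (∀ a ∈ A, g * a * g⁻¹ = a⁻¹)}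
  one_mem' := Or.inl fun a _ => by simp
  mul_mem' := by
    intro g h hg hh
    have e : ∀ a : G, g * h * a * (g * h)⁻¹ = g * (h * a * h⁻¹) * g⁻¹ := fun a => by group
    rcases hg with hg | hg <;> rcases hh with hh | hh
    · exact Or.inl fun a ha => by rw [e, hh a ha, hg a ha]
    · exact Or.inr fun a ha => by rw [e, hh a ha, hg _ (inv_mem ha)]
    · exact Or.inr fun a ha => by rw [e, hh a ha, hg a ha]
    · exact Or.inl fun a ha => by rw [e, hh a ha, hg _ (inv_mem ha), inv_inv]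
  inv_mem' := by
    intro g hg
    rcases hg with hg | hg
    · refine Or.inl fun a ha => ?_
      conv_lhs => rw [← hg a ha]
      group
    · refine Or.inr fun a ha => ?_
      have h := hg _ (inv_mem ha)
      rw [inv_inv] at h
      conv_lhs => rw [← h]
      group

theorem mem_extCent {A : Subgroup G} {g : G} : g ∈ extCent A ↔
    (∀ a ∈ A, g * a * g⁻¹ = a) ∨ (∀ a ∈ A, g * a * g⁻¹ = a⁻¹) := Iff.rfl

open scoped Classical in
/-- The sign of the action on `A`. -/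
noncomputable def extSign (A : Subgroup G) (a₀ : G) (ha₀ : a₀ ∈ A) (hne : a₀ ≠ a₀⁻¹) :
    extCent A →* ℤˣ where
  toFun g := if (g : G) * a₀ * (g : G)⁻¹ = a₀ then 1 else -1
  map_one' := by simp
  map_mul' g h := by
    have e : ∀ x y a : G, x * y * a * (x * y)⁻¹ = x * (y * a * y⁻¹) * x⁻¹ := fun x y a => by group
    rcases g.2 with hg | hg <;> rcases h.2 with hh | hh <;>
      simp only [Subgroup.coe_mul, e, hg a₀ ha₀, hh a₀ ha₀, hg _ (inv_mem ha₀), inv_inv] <;>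
      simp [hne.symm]

theorem card_map_mul_card_ker {Y Q : Type*} [Group Y] [Group Q] [Finite Y] (f : Y →* Q)
    (hf : Function.Surjective f) (H : Subgroup Y) (hH : f.ker ≤ H) :
    Nat.card (H.map f) * Nat.card f.ker = Nat.card H := by
  have h1 : (H.map f).index = H.index := Subgroup.index_map_eq _ hf hH
  have h2 := Subgroup.card_mul_index H
  have h3 := Subgroup.card_mul_index (H.map f)
  have h4 := Subgroup.card_mul_index f.ker
  rw [Subgroup.index_ker, MonoidHom.range_eq_top.2 hf, Subgroup.card_top, ← h3, h1, ← h2,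
    ← mul_assoc] at h4
  have hpos : 0 < H.index := Nat.pos_of_ne_zero Subgroup.index_ne_zero_of_finite
  rw [mul_comm (Nat.card (H.map f))]
  exact Nat.eq_of_mul_eq_mul_right hpos h4

theorem card_map_of_inj {Y Q : Type*} [Group Y] [Group Q] (f : Y →* Q) (H : Subgroup Y)
    (h : ∀ x ∈ H, f x = 1 → x = 1) : Nat.card (H.map f) = Nat.card H := by
  have hinj : Function.Injective (f.comp H.subtype) :=
    (injective_iff_map_eq_one _).2 fun x hx => Subtype.ext (h x x.2 hx)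
  rw [show H.map f = (f.comp H.subtype).range by rw [MonoidHom.range_comp, Subgroup.range_subtype]]
  exact (Nat.card_congr (MonoidHom.ofInjective hinj).toEquiv).symm

theorem exists_sqrt [Finite G] {A : Subgroup G} (hA : Odd (Nat.card A)) {a : G} (ha : a ∈ A) :
    ∃ c ∈ A, c * c = a := by
  obtain ⟨m, hm⟩ := hA
  refine ⟨a ^ (m + 1), pow_mem ha _, ?_⟩
  have h := Subgroup.pow_mem _ ha (Nat.card A)
  have h1 : a ^ Nat.card A = 1 :=
    orderOf_dvd_iff_pow_eq_one.1 (by rw [← Subgroup.orderOf_mk a ha]; exact orderOf_dvd_natCard _)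
  rw [← pow_add, show m + 1 + (m + 1) = Nat.card A + 1 by omega, pow_succ, h1, one_mul]

theorem eq_one_of_sq_mem [Finite G] {A : Subgroup G} (hA : Odd (Nat.card A)) {a : G} (ha : a ∈ A)
    (h : a * a = 1) : a = 1 := by
  have h1 : orderOf a ∣ Nat.card A := by
    rw [← Subgroup.orderOf_mk a ha]; exact orderOf_dvd_natCard _
  have h2 : orderOf a ∣ 2 := orderOf_dvd_of_pow_eq_one (by rw [pow_two]; exact h)
  refine orderOf_eq_one_iff.1 (Nat.eq_one_of_dvd_coprimes ?_ h1 h2)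
  exact Nat.coprime_two_right.2 hA

/-- The configuration: a self-centralizing element of order four in a Sylow subgroup of order eight,
all involutions conjugate. -/
structure Config (P : Sylow 2 G) (σ τ : G) (R : H56.CentRetr P (H56.centInv σ 3)) : Prop where
  D : H56.DihSylow P σ τ 3
  cent : Nat.card (centralizer ({σ} : Set G)) = 4
  conj₀ : IsConj (σ ^ 2) τ
  conj₁ : IsConj (σ ^ 2) (σ * τ)
  inverts : ∀ k ∈ R.K, σ * k * σ⁻¹ = k⁻¹

namespace Config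

variable [Finite G] {P : Sylow 2 G} {σ τ : G} {R : H56.CentRetr P (H56.centInv σ 3)}
  (C : Config P σ τ R)
include C

theorem comm {x y : G} (hx : x ∈ R.K) (hy : y ∈ R.K) : x * y = y * x := by
  have h := C.inverts _ (mul_mem hx hy)
  rw [show σ * (x * y) * σ⁻¹ = σ * x * σ⁻¹ * (σ * y * σ⁻¹) by group, C.inverts x hx, C.inverts y hy,
    mul_inv_rev] at h
  simpa using (congrArg (·⁻¹) h).symm

theorem commute_J {x : G} (hx : x ∈ R.K) : x * σ ^ 2 = σ ^ 2 * x :=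
  mem_centralizer_singleton_iff.1 (R.K_le hx)

theorem mem_K_of_odd {x : G} (hx : x * σ ^ 2 = σ ^ 2 * x) (ho : Odd (orderOf x)) : x ∈ R.K := by
  have hxC : x ∈ centralizer ({H56.centInv σ 3} : Set G) := mem_centralizer_singleton_iff.2 hx
  refine (R.π_ker x hxC).1 ?_
  obtain ⟨e, he⟩ := P.isPGroup' ⟨R.π x, R.π_mem x hxC⟩
  have he' : R.π x ^ 2 ^ e = 1 := congrArg Subtype.val he
  rw [← orderOf_eq_one_iff]
  exact Nat.eq_one_of_dvd_coprimes ((Nat.coprime_two_left.2 ho).pow_left e)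
    (orderOf_dvd_of_pow_eq_one he')
    (orderOf_dvd_of_pow_eq_one (by rw [← R.π_pow hxC, pow_orderOf_eq_one, R.π_one]))

theorem card_K : Nat.card R.K = R.kap τ * R.kap (σ * τ) := by
  classical
  have hτK : ∀ k ∈ R.K, τ * k * τ⁻¹ ∈ R.K := by
    intro k hk
    refine C.mem_K_of_odd ?_ ((H28.orderOf_conj_eq τ k).symm ▸ R.odd_orderOf hk)
    have h1 : Commute τ (σ ^ 2) := C.D.commute_tau
    exact ((h1.mul_left (C.commute_J hk)).mul_left h1.inv_left).eq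
  have hinv : ∀ k ∈ R.K, (σ * τ) * k * (σ * τ)⁻¹ = (τ * k * τ⁻¹)⁻¹ := fun k hk => by
    rw [show σ * τ * k * (σ * τ)⁻¹ = σ * (τ * k * τ⁻¹) * σ⁻¹ by group, C.inverts _ (hτK k hk)]
  rw [H56.CentRetr.kap, H56.CentRetr.kap, ← Nat.card_prod]
  refine (Nat.card_eq_of_bijective (fun x : ↥(R.K ⊓ centralizer ({τ} : Set G)) ×
      ↥(R.K ⊓ centralizer ({σ * τ} : Set G)) =>
    (⟨(x.1 : G) * x.2, mul_mem (mem_inf.1 x.1.2).1 (mem_inf.1 x.2.2).1⟩ : R.K)) ⟨?_, ?_⟩).symm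
  · rintro ⟨⟨x, hx⟩, ⟨y, hy⟩⟩ ⟨⟨x', hx'⟩, ⟨y', hy'⟩⟩ h
    have h' : x * y = x' * y' := congrArg Subtype.val h
    obtain ⟨hzK, hzτ⟩ := mem_inf.1 (mul_mem (inv_mem hx') hx)
    have he : x'⁻¹ * x = y' * y⁻¹ := by
      rw [inv_mul_eq_iff_eq_mul, ← mul_assoc, ← h', mul_inv_cancel_right]
    have hzj := (mem_inf.1 (mul_mem hy' (inv_mem hy))).2
    rw [← he] at hzj
    rw [mem_centralizer_singleton_iff] at hzτ hzj
    have h1 : τ * (x'⁻¹ * x) * τ⁻¹ = x'⁻¹ * x := by rw [← hzτ, mul_inv_cancel_right]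
    have h2 : σ * τ * (x'⁻¹ * x) * (σ * τ)⁻¹ = x'⁻¹ * x := by rw [← hzj, mul_inv_cancel_right]
    rw [hinv _ hzK, h1] at h2
    have h3 := R.eq_one_of_sq hzK (by nth_rewrite 1 [← h2]; rw [inv_mul_cancel])
    have hxx : x = x' := (inv_mul_eq_one.1 h3).symm
    subst hxx
    exact Prod.ext (Subtype.ext rfl) (Subtype.ext (mul_left_cancel h'))
  · rintro ⟨k, hk⟩
    obtain ⟨m, hm, hmk⟩ := exists_sqrt R.K_odd hk
    have ht := hτK m hm
    have hti := hτK _ (inv_mem hm)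
    have hττ : ∀ u : G, τ * (τ * u * τ⁻¹) * τ⁻¹ = u := fun u => by
      rw [show τ * (τ * u * τ⁻¹) * τ⁻¹ = τ * τ * u * (τ * τ)⁻¹ by group, C.D.tau_mul]; simp
    refine ⟨(⟨m * (τ * m * τ⁻¹), mem_inf.2 ⟨mul_mem hm ht, ?_⟩⟩,
      ⟨m * (τ * m⁻¹ * τ⁻¹), mem_inf.2 ⟨mul_mem hm hti, ?_⟩⟩), Subtype.ext ?_⟩
    · rw [mem_centralizer_singleton_iff, eq_comm, ← mul_inv_eq_iff_eq_mul,
        show τ * (m * (τ * m * τ⁻¹)) * τ⁻¹ = (τ * m * τ⁻¹) * (τ * (τ * m * τ⁻¹) * τ⁻¹) by group,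
        hττ, C.comm ht hm]
    · rw [mem_centralizer_singleton_iff, eq_comm, ← mul_inv_eq_iff_eq_mul, hinv _ (mul_mem hm hti),
        show τ * (m * (τ * m⁻¹ * τ⁻¹)) * τ⁻¹ = (τ * m * τ⁻¹) * (τ * (τ * m⁻¹ * τ⁻¹) * τ⁻¹) by group,
        hττ, mul_inv_rev, inv_inv, show (τ * m * τ⁻¹)⁻¹ = τ * m⁻¹ * τ⁻¹ by group]
    · show m * (τ * m * τ⁻¹) * (m * (τ * m⁻¹ * τ⁻¹)) = k
      rw [C.comm hm ht, mul_assoc, ← mul_assoc m m, C.comm (mul_mem hm hm) hti, ← mul_assoc,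
        show τ * m * τ⁻¹ * (τ * m⁻¹ * τ⁻¹) = 1 by group, one_mul, hmk]

/-- An element centralizing `A` and moving the central involution to `τ`. -/
theorem exists_move :
    ∃ y : G, (∀ a ∈ R.K ⊓ centralizer ({τ} : Set G), y * a * y⁻¹ = a) ∧ y * σ ^ 2 * y⁻¹ = τ := by
  classical
  obtain ⟨g, hg⟩ := isConj_iff.1 C.conj₀
  have hJ2 : σ ^ 2 * σ ^ 2 = 1 := H28.mul_self_of_orderOf_two (orderOf_sq C.D)
  obtain ⟨v, hv⟩ : ∃ v, v = g⁻¹ * σ ^ 2 * g := ⟨_, rfl⟩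
  have hvJ : v * σ ^ 2 = σ ^ 2 * v := by
    have h := C.D.commute_tau.eq
    change τ * σ ^ 2 = σ ^ 2 * τ at h
    rw [← hg] at h
    subst hv
    calc g⁻¹ * σ ^ 2 * g * σ ^ 2 = g⁻¹ * (σ ^ 2 * (g * σ ^ 2 * g⁻¹)) * g := by group
      _ = g⁻¹ * (g * σ ^ 2 * g⁻¹ * σ ^ 2) * g := by rw [h]
      _ = σ ^ 2 * (g⁻¹ * σ ^ 2 * g) := by group
  have hvC : v ∈ centralizer ({H56.centInv σ 3} : Set G) := mem_centralizer_singleton_iff.2 hvJ
  have hv2 : v * v = 1 := by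
    rw [hv, show g⁻¹ * σ ^ 2 * g * (g⁻¹ * σ ^ 2 * g) = g⁻¹ * (σ ^ 2 * σ ^ 2) * g by group, hJ2]
    group
  have hv1 : v ≠ 1 := by
    intro h
    apply H28.ne_one_of_orderOf_two (orderOf_sq C.D)
    calc σ ^ 2 = g * v * g⁻¹ := by rw [hv]; group
      _ = 1 := by rw [h]; group
  have hvJ' : v ≠ σ ^ 2 := by
    intro h
    apply C.D.not_mem
    have : g * v * g⁻¹ = σ ^ 2 := by rw [hv]; group
    rw [h, hg] at this
    rw [this]
    exact npow_mem_zpowers σ 2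
  obtain ⟨i, -, hi⟩ := (C.D.over_cases R hvC hv2 hv1).resolve_left fun h =>
    hvJ' (C.D.eq_centInv_of_over R hvC hv2 h)
  obtain ⟨k, hk, hkv⟩ := (C.D.shift i).exists_conj_over R hvC hv2 hi
  obtain ⟨s, hs⟩ : ∃ s, s = k * σ * k⁻¹ := ⟨_, rfl⟩
  have hkJ : Commute k (σ ^ 2) := C.commute_J hk
  have hsJ : s * σ ^ 2 * s⁻¹ = σ ^ 2 := by
    have h : Commute s (σ ^ 2) := by
      rw [hs]; exact ((hkJ.mul_left (Commute.pow_self σ 2).symm).mul_left hkJ.inv_left)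
    rw [h.eq, mul_inv_cancel_right]
  have hsv : s * v * s⁻¹ = σ ^ 2 * v := by
    rw [← hkv, hs]
    have h : σ * (σ ^ i * τ) * σ⁻¹ = σ ^ 2 * (σ ^ i * τ) := by
      have ht : τ * σ⁻¹ = σ * τ := by
        have h1 := C.D.inv
        calc τ * σ⁻¹ = τ * (τ * σ * τ⁻¹) := by rw [h1]
          _ = σ * τ := by rw [← mul_assoc, ← mul_assoc, C.D.tau_mul, one_mul, C.D.tau_inv]
      calc σ * (σ ^ i * τ) * σ⁻¹ = σ * σ ^ i * (τ * σ⁻¹) := by group
        _ = σ ^ 2 * (σ ^ i * τ) := by rw [ht]; group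
    calc k * σ * k⁻¹ * (k * (σ ^ i * τ) * k⁻¹) * (k * σ * k⁻¹)⁻¹
        = k * (σ * (σ ^ i * τ) * σ⁻¹) * k⁻¹ := by group
      _ = k * σ ^ 2 * (σ ^ i * τ) * k⁻¹ := by rw [h]; group
      _ = σ ^ 2 * (k * (σ ^ i * τ) * k⁻¹) := by rw [hkJ.eq]; group
  obtain ⟨u, hu⟩ : ∃ u, u = g * s * g⁻¹ := ⟨_, rfl⟩
  have huτ : u * τ * u⁻¹ = τ := by
    rw [hu, ← hg]
    calc g * s * g⁻¹ * (g * σ ^ 2 * g⁻¹) * (g * s * g⁻¹)⁻¹ = g * (s * σ ^ 2 * s⁻¹) * g⁻¹ := by group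
      _ = g * σ ^ 2 * g⁻¹ := by rw [hsJ]
  have huJ : u * σ ^ 2 * u⁻¹ = τ * σ ^ 2 := by
    have e : σ ^ 2 = g * v * g⁻¹ := by rw [hv]; group
    conv_lhs => rw [e]
    rw [hu, show g * s * g⁻¹ * (g * v * g⁻¹) * (g * s * g⁻¹)⁻¹ = g * (s * v * s⁻¹) * g⁻¹ by group,
      hsv, show g * (σ ^ 2 * v) * g⁻¹ = g * σ ^ 2 * g⁻¹ * (g * v * g⁻¹) by group, hg, ← e]
  have huJ' : u⁻¹ * σ ^ 2 * u = τ * σ ^ 2 := by
    have h2 : u * (τ * σ ^ 2) * u⁻¹ = σ ^ 2 := by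
      rw [show u * (τ * σ ^ 2) * u⁻¹ = u * τ * u⁻¹ * (u * σ ^ 2 * u⁻¹) by group, huτ, huJ,
        ← mul_assoc, C.D.tau_mul, one_mul]
    conv_lhs => rw [← h2]
    group
  have hA : ∀ a ∈ R.K ⊓ centralizer ({τ} : Set G),
      u * a * u⁻¹ ∈ R.K ⊓ centralizer ({τ} : Set G) ∧
      u⁻¹ * a * u ∈ R.K ⊓ centralizer ({τ} : Set G) := by
    intro a ha
    obtain ⟨haK, haτ⟩ := mem_inf.1 ha
    rw [mem_centralizer_singleton_iff] at haτ
    have key : ∀ t : G, t * τ * t⁻¹ = τ → t * (τ * σ ^ 2) * t⁻¹ = σ ^ 2 →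
        t * a * t⁻¹ ∈ R.K ⊓ centralizer ({τ} : Set G) := by
      intro t ht htJ
      have c1 : Commute (t * a * t⁻¹) (t * (τ * σ ^ 2) * t⁻¹) :=
        (Commute.conj_iff t).2 (Commute.mul_right haτ (C.commute_J haK))
      have c2 : Commute (t * a * t⁻¹) (t * τ * t⁻¹) := (Commute.conj_iff t).2 haτ
      rw [htJ] at c1
      rw [ht] at c2
      exact mem_inf.2 ⟨C.mem_K_of_odd c1.eq ((H28.orderOf_conj_eq t a).symm ▸ R.odd_orderOf haK),
        mem_centralizer_singleton_iff.2 c2.eq⟩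
    refine ⟨key u huτ ?_, ?_⟩
    · conv_lhs => rw [← huJ']
      group
    · have := key u⁻¹ (by conv_lhs => rw [← huτ]
                          group) (by conv_lhs => rw [← huJ]
                                     group)
      rwa [inv_inv] at this
  refine ⟨u * σ * u⁻¹ * σ⁻¹, fun a ha => ?_, ?_⟩
  · have hi : σ⁻¹ * a * σ = a⁻¹ := by
      conv_lhs => rw [← inv_inv a, ← C.inverts a (mem_inf.1 ha).1]
      group
    rw [show u * σ * u⁻¹ * σ⁻¹ * a * (u * σ * u⁻¹ * σ⁻¹)⁻¹ =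
      u * (σ * (u⁻¹ * (σ⁻¹ * a * σ) * u) * σ⁻¹) * u⁻¹ by group, hi,
      C.inverts _ (mem_inf.1 (hA _ (inv_mem ha)).2).1]
    group
  · have h : σ * (τ * σ ^ 2) * σ⁻¹ = τ := by
      have ht : σ * τ * σ⁻¹ = σ ^ 2 * τ := by
        have h0 : τ * σ⁻¹ = σ * τ := by
          have h1 := C.D.inv
          calc τ * σ⁻¹ = τ * (τ * σ * τ⁻¹) := by rw [h1]
            _ = σ * τ := by rw [← mul_assoc, ← mul_assoc, C.D.tau_mul, one_mul, C.D.tau_inv]
        rw [mul_assoc, h0, ← mul_assoc, pow_two]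
      calc σ * (τ * σ ^ 2) * σ⁻¹ = σ * τ * σ⁻¹ * σ ^ 2 := by group
        _ = σ ^ 2 * (τ * σ ^ 2) := by rw [ht]; group
        _ = τ := by
          have hc : τ * σ ^ 2 = σ ^ 2 * τ := C.D.commute_tau.eq
          rw [hc, ← mul_assoc, hJ2, one_mul]
    rw [show u * σ * u⁻¹ * σ⁻¹ * σ ^ 2 * (u * σ * u⁻¹ * σ⁻¹)⁻¹ =
      u * (σ * (u⁻¹ * σ ^ 2 * u) * σ⁻¹) * u⁻¹ by group, huJ', h, huτ]

end Config

end Cfsg.Agent.H69.Small4
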