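import Cfsg.Agent.H69.Small4.Arith
import Cfsg.Agent.H69.Small4.Quot
import Cfsg.Agent.H69.Small4.Index
import Cfsg.Agent.S3035
import Cfsg.Agent.S0495
import Cfsg.Agent.S0255
import Cfsg.Agent.H93.ZStar

/-!
# Simple groups with a self-centralizing element of order four and dihedral Sylow subgroups of order 8
-/

set_option autoImplicit false
set_option linter.style.haveILetI false
set_option linter.unusedSectionVars false

namespace Cfsg.Agent.H69.Small4

open Cfsg.Agent Subgroup

/-- The arithmetic of one side. -/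
theorem side_bound {a b k N₂ : ℤ} (ha : 0 < a) (hb : 0 < b) (hbo : Odd b) (hk : Odd k)
    (hN₀ : 0 < N₂) (hN : N₂ * k = 4 * b ^ 2 * (2 * k + 1)) (hdvd : N₂ ∣ 8 * (a * b)) :
    b ≤ a ∧ (a ≤ b → k = -1) := by
  have h4 : (4 : ℤ) ∣ N₂ * k := ⟨b ^ 2 * (2 * k + 1), by rw [hN]; ring⟩
  have hco : IsCoprime (4 : ℤ) k := by
    obtain ⟨j, rfl⟩ := hk
    exact ⟨-(j ^ 2 + j), 2 * j + 1, by ring⟩
  obtain ⟨c, rfl⟩ := hco.dvd_of_dvd_mul_right h4
  have hc : c * k = b ^ 2 * (2 * k + 1) := by linarith
  have hco' : Odd c := by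
    have h : Odd (c * k) := by
      rw [hc]
      exact hbo.pow.mul ⟨k, rfl⟩
    exact (Int.odd_mul.1 h).1
  have hc2 : c ∣ 2 * (a * b) := by
    rw [show 8 * (a * b) = 4 * (2 * (a * b)) by ring] at hdvd
    exact Int.dvd_of_mul_dvd_mul_left (by norm_num) hdvd
  have hcop : IsCoprime c (2 : ℤ) := by
    obtain ⟨j, rfl⟩ := hco'
    exact ⟨1, -j, by ring⟩
  have hle : c ≤ a * b := Int.le_of_dvd (mul_pos ha hb) (hcop.dvd_of_dvd_mul_left hc2)
  have hlow : b ^ 2 ≤ c ∧ (c = b ^ 2 → k = -1) := by
    have hb2 : 0 < b ^ 2 := by positivity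
    obtain ⟨j, rfl⟩ := hk
    rcases lt_trichotomy j (-1) with h | rfl | h
    · have h1 : b ^ 2 < c := by
        by_contra h2
        push Not at h2
        nlinarith
      exact ⟨h1.le, fun h2 => absurd h2 h1.ne'⟩
    · exact ⟨by linarith, fun _ => by norm_num⟩
    · have h1 : b ^ 2 < c := by
        by_contra h2
        push Not at h2
        nlinarith
      exact ⟨h1.le, fun h2 => absurd h2 h1.ne'⟩
  refine ⟨?_, fun hab => hlow.2 ?_⟩
  · by_contra h
    push Not at h
    nlinarith [hlow.1]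
  · nlinarith [hlow.1]

variable {G : Type*} [Group G] [Finite G]

/-- The centralizer of an involution with dihedral centralizer is not everything. -/
theorem not_top [IsSimpleGroup G] (hG : ¬ IsCyclic G) {z : G} (hz : orderOf z = 2)
    (e : ↥(centralizer ({z} : Set G)) ≃* DihedralGroup 4)
    (h : centralizer ({z} : Set G) ⊔ Cfsg.oddCore G = ⊤) : False := by
  have hz1 : z ≠ 1 := H28.ne_one_of_orderOf_two hz
  rcases (inferInstance : (Cfsg.oddCore G).Normal).eq_bot_or_eq_top with h' | h'
  · rw [h', sup_bot_eq] at h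
    have hzc : z ∈ center G := mem_center_iff.2 fun g =>
      (mem_centralizer_singleton_iff.1 (h ▸ mem_top g))
    have hct : center G = ⊤ :=
      (IsSimpleGroup.eq_bot_or_eq_top_of_normal (center G) inferInstance).resolve_left fun hb =>
        hz1 (by rw [hb, mem_bot] at hzc; exact hzc)
    have hcomm : ∀ a b : G, a * b = b * a := fun a b =>
      mem_center_iff.1 (hct ▸ mem_top b) a
    let _ : CommGroup G := { ‹Group G› with mul_comm := hcomm }
    exact hG inferInstance
  · have h1 := H93.odd_card_oddCore (G := G)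
    rw [h', Subgroup.card_top] at h1
    have h2 : orderOf z ∣ Nat.card G := orderOf_dvd_natCard z
    rw [hz] at h2
    exact Nat.not_even_iff_odd.2 h1 (even_iff_two_dvd.2 h2)

/-- Symmetric groups of degree at least three are not simple. -/
theorem not_perm [IsSimpleGroup G] {n : ℕ} (hn : 3 ≤ n) (f : G ≃* Equiv.Perm (Fin n)) : False := by
  haveI : Nontrivial (Equiv.Perm (Fin n)) := f.symm.toEquiv.nontrivial
  haveI : IsSimpleGroup (Equiv.Perm (Fin n)) :=
    IsSimpleGroup.isSimpleGroup_of_surjective f.toMonoidHom f.surjective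
  haveI : Nontrivial (Fin n) := Fin.nontrivial_iff_two_le.2 (by omega)
  have h2 := two_mul_card_alternatingGroup (α := Fin n)
  rw [Fintype.card_perm, Fintype.card_fin, ← Nat.card_eq_fintype_card] at h2
  have h6 : 6 ≤ n.factorial := Nat.factorial_le hn
  rcases (inferInstance : (alternatingGroup (Fin n)).Normal).eq_bot_or_eq_top with h | h
  · rw [h, Subgroup.card_bot] at h2
    omega
  · rw [h, Subgroup.card_top, Nat.card_perm, Nat.card_fin] at h2
    omega

/-- The group `SL₃(2)` as a projective special linear group of dimension two. -/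
theorem sl32_case (f : G ≃* Matrix.SpecialLinearGroup (Fin 3) (ZMod 2)) :
    ∃ (F : Type) (_ : Field F) (_ : Fintype F), Fintype.card F = 7 ∧
      Nonempty (G ≃* Matrix.ProjectiveSpecialLinearGroup (Fin 2) F) := by
  haveI : Fact (Nat.Prime 2) := ⟨Nat.prime_two⟩
  haveI : Fact (Nat.Prime 7) := ⟨by norm_num⟩
  obtain ⟨e2⟩ := Cfsg.Agent.S0255.result (F := ZMod 7) (K := ZMod 2) (ZMod.card 7) (ZMod.card 2)
  have hc : Subgroup.center (Matrix.SpecialLinearGroup (Fin 3) (ZMod 2)) = ⊥ := by
    rw [eq_bot_iff]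
    intro A hA
    rw [Subgroup.mem_bot]
    obtain ⟨r, hr, hrA⟩ := Matrix.SpecialLinearGroup.mem_center_iff.mp hA
    have hr1 : r = 1 := by
      rw [Fintype.card_fin] at hr
      exact S3035.zmod2_cube r hr
    refine Matrix.SpecialLinearGroup.ext _ _ fun i j => ?_
    rw [← hrA, hr1, map_one]; rfl
  exact ⟨ZMod 7, inferInstance, inferInstance, ZMod.card 7,
    ⟨(f.trans ((QuotientGroup.quotientMulEquivOfEq hc).trans QuotientGroup.quotientBot).symm).trans
      e2.symm⟩⟩

namespace Config

variable {P : Sylow 2 G} {σ τ : G} {R : H56.CentRetr P (H56.centInv σ 3)} (C : Config P σ τ R)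
include C

theorem shift : Config P σ (σ * τ) R where
  D := by simpa using C.D.shift 1
  cent := C.cent
  conj₀ := C.conj₁
  conj₁ := by
    rw [← mul_assoc, ← pow_two]
    have h := conj_refl_two C.D 0
    rw [pow_zero, one_mul] at h
    exact C.conj₀.trans h
  inverts := C.inverts

theorem kap_shift : R.kap (σ * (σ * τ)) = R.kap τ := by
  have hJ : ∀ x ∈ R.K, Commute x (σ ^ 2) := fun x hx => C.commute_J hx
  rw [H56.CentRetr.kap, H56.CentRetr.kap]
  refine congrArg (fun H : Subgroup G => Nat.card H) (?_ :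
    R.K ⊓ centralizer ({σ * (σ * τ)} : Set G) = R.K ⊓ centralizer ({τ} : Set G))
  ext x
  simp only [mem_inf, mem_centralizer_singleton_iff, ← mul_assoc, ← pow_two]
  refine and_congr_right fun hx => ⟨fun h => ?_, fun h => ?_⟩
  · refine mul_left_cancel (a := σ ^ 2) ?_
    rw [← mul_assoc, ← (hJ x hx).eq, h, mul_assoc]
  · rw [(hJ x hx).eq, mul_assoc, h, ← mul_assoc]

theorem kap_odd : Odd (R.kap τ) :=
  R.K_odd.of_dvd_nat (Subgroup.card_dvd_of_le inf_le_left)

theorem kap_pos : 0 < R.kap τ := Nat.card_pos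

/-- The centralizer of the central involution is dihedral when the core is trivial. -/
theorem centralizer_dihedral (h : Nat.card R.K = 1) :
    Nonempty (↥(centralizer ({σ ^ 2} : Set G)) ≃* DihedralGroup 4) := by
  haveI := Fintype.ofFinite G
  have hc : Nat.card (centralizer ({σ ^ 2} : Set G)) = 8 := by
    have h2 := C.D.card_centralizer R
    rw [show σ ^ 2 = H56.centInv σ 3 from rfl, h2, h]
    norm_num
  have hPC : (P : Subgroup G) ≤ centralizer ({σ ^ 2} : Set G) := C.D.le_centralizer
  have hP8 : Nat.card (P : Subgroup G) = 8 := by rw [C.D.card_P]; norm_num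
  have heq : (P : Subgroup G) = centralizer ({σ ^ 2} : Set G) :=
    Subgroup.eq_of_le_of_card_ge hPC (by rw [hc, hP8])
  have hx : τ * τ = 1 := C.D.tau_mul
  have hy : τ * σ * (τ * σ) = 1 := by
    have := C.D.inv
    rw [C.D.tau_inv] at this
    rw [show τ * σ * (τ * σ) = τ * σ * τ * σ by group, this, inv_mul_cancel]
  have hy1 : τ * σ ≠ 1 := fun h => C.D.not_mem (by
    rw [eq_inv_of_mul_eq_one_left h]
    exact inv_mem (mem_zpowers σ))
  obtain ⟨e⟩ := H28.closure_pair_dihedral hx hy (H28.ne_one_of_orderOf_two C.D.ordτ) hy1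
  have hcl : closure ({τ, τ * σ} : Set G) = centralizer ({σ ^ 2} : Set G) := by
    rw [← heq]
    refine le_antisymm ((closure_le _).2 ?_) fun p hp => ?_
    · simp only [Set.insert_subset_iff, Set.singleton_subset_iff]
      exact ⟨C.D.memτ, mul_mem C.D.memτ C.D.memσ⟩
    · have h1 : τ ∈ closure ({τ, τ * σ} : Set G) := subset_closure (by simp)
      have h2 : σ ∈ closure ({τ, τ * σ} : Set G) := by
        have := mul_mem h1 (subset_closure (by simp) : τ * σ ∈ closure ({τ, τ * σ} : Set G))
        rwa [← mul_assoc, hx, one_mul] at this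
      obtain ⟨i, rfl | rfl⟩ := C.D.forms p hp
      · exact pow_mem h2 i
      · exact mul_mem (pow_mem h2 i) h1
  rw [← mul_assoc, hx, one_mul, orderOf_sigma C.D] at e
  exact ⟨(MulEquiv.subgroupCongr hcl).symm.trans e⟩

/-- Both factors nontrivial forces them to be equal, and gives a subgroup of order `24 a⁴`. -/
theorem both_nontrivial (ha : 1 < R.kap τ) (hb : 1 < R.kap (σ * τ)) :
    R.kap τ = R.kap (σ * τ) ∧ ∃ Y : Subgroup G, Nat.card Y = 24 * R.kap τ ^ 4 := by
  obtain ⟨Y, k, N₂, gY, hk, hN₀, hN, hdvd, hgY, hY, -⟩ := C.local_data ha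
  have C' := C.shift
  obtain ⟨Y', k', N₂', gY', hk', hN₀', hN', hdvd', -⟩ := C'.local_data hb
  rw [C.kap_shift] at hN' hdvd'
  have ha0 : (0 : ℤ) < R.kap τ := by exact_mod_cast C.kap_pos
  have hb0 : (0 : ℤ) < R.kap (σ * τ) := by exact_mod_cast C'.kap_pos
  have hao : Odd (R.kap τ : ℤ) := by exact_mod_cast C.kap_odd
  have hbo : Odd (R.kap (σ * τ) : ℤ) := by exact_mod_cast C'.kap_odd
  obtain ⟨h1, h1'⟩ := side_bound ha0 hb0 hbo hk hN₀ hN hdvd
  obtain ⟨h2, -⟩ := side_bound hb0 ha0 hao hk' hN₀' hN' hdvd'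
  have hab : (R.kap τ : ℤ) = R.kap (σ * τ) := le_antisymm h2 h1
  obtain rfl := h1' h2
  refine ⟨by exact_mod_cast hab, Y, ?_⟩
  rw [← hab] at hgY
  norm_num at hgY
  rw [hgY] at hY
  exact_mod_cast (show (Nat.card Y : ℤ) = 24 * (R.kap τ : ℤ) ^ 4 by rw [hY]; ring)

/-- The case of a group of order `7560`. -/
theorem not_7560 [IsSimpleGroup G] (hg : Nat.card G = 7560) (ha : R.kap τ = 5)
    (hb : R.kap (σ * τ) = 1) : False := by
  obtain ⟨Y, k, N₂, gY, hk, hN₀, hN, hdvd, hgY, hY, hYN, -, hrel, hXY⟩ := C.local_data (by omega)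
  rw [ha, hb] at hdvd
  rw [hb] at hN hgY
  rw [ha] at hY
  norm_num at hN hdvd hgY hY
  have hk1 : k = -1 := by
    have h4 : k ∣ 4 := ⟨N₂ - 8, by linarith⟩
    have hle := Int.le_of_dvd (by norm_num) h4
    have hge := Int.le_of_dvd (by norm_num) (neg_dvd.2 h4)
    obtain ⟨j, rfl⟩ := hk
    have hj1 : -2 ≤ j := by omega
    have hj2 : j ≤ 1 := by omega
    interval_cases j
    all_goals first
      | (norm_num; done)
      | (norm_num at h4; done)
      | (norm_num at hN; subst hN; norm_num at hdvd)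
  subst hk1
  norm_num at hgY
  subst hgY
  have hY120 : Nat.card Y = 120 := by exact_mod_cast hY
  set A : Subgroup G := R.K ⊓ centralizer ({τ} : Set G)
  have hA : Nat.card A = 5 := ha
  haveI : Fact (Nat.Prime 5) := ⟨by norm_num⟩
  haveI : IsCyclic A := isCyclic_of_prime_card hA
  have hC : Nat.card (centralizer (A : Set G)) = 60 := by
    have h1 := Subgroup.card_mul_index ((centralizer (A : Set G)).subgroupOf Y)
    rw [show ((centralizer (A : Set G)).subgroupOf Y).index = 2 from hrel,
      Nat.card_congr (subgroupOfEquivOfLe hXY).toEquiv, hY120] at h1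
    omega
  set N := normalizer (A : Set G) with hN'
  have hNdvd : Nat.card N ∣ 240 := by
    have h1 := Subgroup.card_mul_index ((centralizer (A : Set G)).subgroupOf N)
    rw [Nat.card_congr (subgroupOfEquivOfLe (hXY.trans hYN)).toEquiv, hC] at h1
    have h2 := card_dvd_of_injective _ (QuotientGroup.kerLift_injective A.normalizerMonoidHom)
    rw [normalizerMonoidHom_ker, IsCyclic.card_mulAut, hA, ← Subgroup.index_eq_card,
      Nat.totient_prime (by norm_num)] at h2
    rw [← h1]
    exact Nat.mul_dvd_mul_left 60 h2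
  have hY_N : 120 ∣ Nat.card N := hY120 ▸ Subgroup.card_dvd_of_le hYN
  have hNG : Nat.card N ∣ 7560 := hg ▸ Subgroup.card_subgroup_dvd_card N
  have hN120 : Nat.card N = 120 := by
    obtain ⟨q, hq⟩ := hY_N
    have h1 := Nat.le_of_dvd (by norm_num) hNdvd
    have h2 : q ≤ 2 := by omega
    interval_cases q <;> simp_all
  have hsyl : Nat.card A = 5 ^ (Nat.card G).factorization 5 := by
    rw [hA, hg, show (7560 : ℕ) = 5 ^ 1 * 1512 by norm_num,
      Nat.factorization_mul (by norm_num) (by norm_num), Finsupp.add_apply,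
      Nat.Prime.factorization_pow (by norm_num : Nat.Prime 5), Finsupp.single_eq_same,
      Nat.factorization_eq_zero_of_not_dvd (by norm_num : ¬ 5 ∣ 1512)]
    norm_num
  let S : Sylow 5 G := Sylow.ofCard A hsyl
  have h1 : Nat.card (Sylow 5 G) = N.index := S.card_eq_index_normalizer
  have h2 := N.card_mul_index
  rw [hN120, hg, ← h1] at h2
  have h3 : Nat.card (Sylow 5 G) % 5 = 1 % 5 := card_sylow_modEq_one 5 G
  omega

/-- One factor trivial. -/
theorem one_trivial [IsSimpleGroup G] (ha : 1 < R.kap τ) (hb : R.kap (σ * τ) = 1) :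
    Nat.card G = 2520 := by
  obtain ⟨e, d₂, d₃, N, h, α, β, hh, he, hd₂, hd₃, hα, hβ, hrel, hE, hN, hF⟩ :=
    equations C.D R C.cent C.card_K C.conj₀ C.conj₁
  rw [hb] at hE hN hF
  obtain ⟨μ, hμ, heq, hG⟩ := derive (a := (R.kap τ : ℤ)) (b := 1) (by exact_mod_cast C.kap_pos)
    one_pos hh he hd₂ hd₃ hrel (by exact_mod_cast hE) (by exact_mod_cast hN) (by exact_mod_cast hF)
  simp only [mul_one] at heq hG
  rcases case_one (a := (R.kap τ : ℤ)) (by exact_mod_cast ha) (by exact_mod_cast C.kap_odd) hα hβ hμ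
    heq with ⟨h1, h2⟩ | ⟨h1, h2⟩ <;> rw [h1, h2] at hG <;> norm_num at hG
  · omega
  · exact (C.not_7560 (by omega) (by omega) hb).elim

/-- The main conclusion. -/
theorem classify [IsSimpleGroup G] (hG : ¬ IsCyclic G)
    (hA7 : Nat.card G = 2520 → Nonempty (G ≃* ↥(alternatingGroup (Fin 7)))) :
    Nonempty (G ≃* ↥(alternatingGroup (Fin 5))) ∨ Nonempty (G ≃* ↥(alternatingGroup (Fin 6))) ∨
      Nonempty (G ≃* ↥(alternatingGroup (Fin 7))) ∨
      (∃ (F : Type) (_ : Field F) (_ : Fintype F), Fintype.card F = 7 ∧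
        Nonempty (G ≃* Matrix.ProjectiveSpecialLinearGroup (Fin 2) F)) := by
  classical
  have ha := C.kap_pos
  have hb := C.shift.kap_pos
  rcases Nat.lt_or_ge 1 (R.kap τ) with ha1 | ha1
  · rcases Nat.lt_or_ge 1 (R.kap (σ * τ)) with hb1 | hb1
    · exfalso
      obtain ⟨hab, Y, hY⟩ := C.both_nontrivial ha1 hb1
      obtain ⟨e, d₂, d₃, N, h, α, β, hh, he, hd₂, hd₃, -, -, hrel, hE, hN, hF⟩ :=
        equations C.D R C.cent C.card_K C.conj₀ C.conj₁
      rw [← hab] at hE hN hF
      obtain ⟨μ, hμ, heq, hgα⟩ := derive (by exact_mod_cast ha) (by exact_mod_cast ha) hh he hd₂ hd₃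
        hrel hE hN hF
      obtain ⟨rfl, hμα⟩ := case_eq (by omega) hμ heq
      obtain ⟨a, hadef⟩ : ∃ a, a = R.kap τ := ⟨_, rfl⟩
      rw [← hadef] at hY hgα hμα ha1
      have hα0 : α ≠ 0 := by rintro rfl; omega
      obtain ⟨m, hm⟩ : ∃ m, Nat.card G = 24 * a ^ 4 * m :=
        ⟨Y.index, by rw [← hY, Subgroup.card_mul_index]⟩
      have ha4 : 0 < a ^ 4 := by positivity
      have hm' : (m : ℤ) = 7 ∨ (m : ℤ) = 15 := by
        refine index_cases (α := α) ?_
        have h8 : ((3 : ℤ) * m * α ^ 2 - (8 * α - 1) * (4 * α - 1)) * (32 * (a : ℤ) ^ 4) = 0 := by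
          rw [hm] at hgα
          push_cast at hgα
          linear_combination hgα
        rcases mul_eq_zero.1 h8 with h' | h'
        · linarith
        · exfalso
          have : (0 : ℤ) < 32 * (a : ℤ) ^ 4 := by positivity
          omega
      have hidx : Y.index = m := by
        have h1 := Y.card_mul_index
        rw [hY, hm] at h1
        exact Nat.eq_of_mul_eq_mul_left (by positivity) h1
      have hYtop : Y ≠ ⊤ := by
        intro h'
        rw [h', Subgroup.index_top] at hidx
        omega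
      have hdvd := H28.card_dvd_factorial_index hYtop
      rw [hidx] at hdvd
      have hao : a % 2 = 1 := Nat.odd_iff.1 (hadef ▸ C.kap_odd)
      rcases hm' with h7 | h15
      · obtain rfl : m = 7 := by exact_mod_cast h7
        rw [hm, show Nat.factorial 7 = 5040 by decide] at hdvd
        have hle : a ^ 4 ≤ 30 := Nat.le_of_dvd (by norm_num)
          (Nat.dvd_of_mul_dvd_mul_left (by norm_num : 0 < 168)
            (by rw [show 168 * a ^ 4 = 24 * a ^ 4 * 7 by ring]; exact hdvd))
        have h3 : 3 ≤ a := by omega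
        nlinarith [Nat.pow_le_pow_left h3 4]
      · obtain rfl : m = 15 := by exact_mod_cast h15
        rw [hm, show Nat.factorial 15 = 1307674368000 by decide] at hdvd
        have hdvd' : a ^ 4 ∣ 3632428800 :=
          Nat.dvd_of_mul_dvd_mul_left (by norm_num : 0 < 360)
            (by rw [show 360 * a ^ 4 = 24 * a ^ 4 * 15 by ring]; exact hdvd)
        have hle : a < 246 := by
          by_contra h'
          push Not at h'
          have := Nat.le_of_dvd (by norm_num) hdvd'
          have h246 := Nat.pow_le_pow_left h' 4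
          omega
        have key : ∀ x < 246, x ^ 4 ∣ 3632428800 → x % 2 = 1 → x = 1 ∨ x = 3 := by decide +kernel
        rcases key a hle hdvd' hao with rfl | rfl
        · omega
        · exact no_index_fifteen (by rw [hm]; norm_num) Y hidx
    · exact Or.inr (Or.inr (Or.inl (hA7 (C.one_trivial ha1 (by omega)))))
  · rcases Nat.lt_or_ge 1 (R.kap (σ * τ)) with hb1 | hb1
    · refine Or.inr (Or.inr (Or.inl (hA7 (C.shift.one_trivial hb1 ?_))))
      rw [C.kap_shift]
      omega
    · have hK : Nat.card R.K = 1 := by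
        rw [C.card_K, show R.kap τ = 1 by omega, show R.kap (σ * τ) = 1 by omega]
      obtain ⟨e⟩ := C.centralizer_dihedral hK
      rcases S3035.result (σ ^ 2) (orderOf_sq C.D) ⟨e⟩ with h | ⟨⟨f⟩⟩ | ⟨⟨f⟩⟩ | ⟨⟨f⟩⟩ | hA6
      · exact (not_top hG (orderOf_sq C.D) e h).elim
      · exact (not_perm (by norm_num) f).elim
      · exact (not_perm (by norm_num) f).elim
      · exact Or.inr (Or.inr (Or.inr (sl32_case f)))
      · exact Or.inr (Or.inl hA6)

end Config

end Cfsg.Agent.H69.Small4
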