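import Cfsg.Agent.H69.Small4.Eqns

/-!
# The equations with two classes of involutions

Here a sign homomorphism is `-1` at `σ` and `1` at `τ`, and the central involution is conjugate to
`τ`.
-/

set_option autoImplicit false
set_option linter.style.haveILetI false
set_option linter.unusedSectionVars false

open scoped ComplexConjugate

namespace Cfsg.Agent.H69.Small4

open Cfsg.Agent Subgroup

variable {G : Type*} [Group G] [Finite G] {P : Sylow 2 G} {σ τ : G}

theorem units_odd_eq_one (φ : G →* ℤˣ) {x : G} (h : Odd (orderOf x)) : φ x = 1 := by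
  rcases Int.units_eq_one_or (φ x) with h1 | h1
  · exact h1
  · exfalso
    have h2 := orderOf_map_dvd φ x
    rw [h1, show orderOf (-1 : ℤˣ) = 2 by
      rw [orderOf_eq_prime_iff]; exact ⟨by decide, by decide⟩] at h2
    exact Nat.not_even_iff_odd.2 h (even_iff_two_dvd.2 h2)

theorem phi_conj (φ : G →* ℤˣ) {x y : G} (h : IsConj x y) : φ x = φ y := by
  obtain ⟨c, rfl⟩ := isConj_iff.1 h
  rw [map_mul, map_mul, map_inv, mul_inv_cancel_comm]

section

variable (φ : G →* ℤˣ) (hσ : φ σ = -1) (hτ : φ τ = 1)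
include hσ hτ

theorem phi_refl (i : ℕ) : φ (σ ^ i * τ) = 1 ↔ Even i := by
  rw [map_mul, map_pow, hσ, hτ, mul_one]
  exact neg_one_pow_eq_one_iff_even (by decide)

theorem phi_retr (D : H56.DihSylow P σ τ 3) (R : H56.CentRetr P (H56.centInv σ 3)) {u : G}
    (hu : u ∈ centralizer ({H56.centInv σ 3} : Set G)) : φ (R.π u) = φ u := by
  have hP := R.π_mem u hu
  have hk : (R.π u)⁻¹ * u ∈ R.K := by
    have h1 := inv_mem (D.le_centralizer hP)
    refine (R.π_ker _ (mul_mem h1 hu)).1 ?_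
    rw [R.π_mul _ h1 _ hu, R.π_fix _ (inv_mem hP), inv_mul_cancel]
  have h2 := units_odd_eq_one φ (R.odd_orderOf hk)
  rw [map_mul, map_inv, inv_mul_eq_one] at h2
  exact h2

/-- Involutions of the centralizer conjugate to the central one. -/
theorem isConj_centInv_iff (D : H56.DihSylow P σ τ 3) (R : H56.CentRetr P (H56.centInv σ 3))
    (h0 : IsConj (σ ^ 2) τ) {u : G} (hu : u ∈ centralizer ({H56.centInv σ 3} : Set G))
    (hu2 : u * u = 1) (hu1 : u ≠ 1) : IsConj (H56.centInv σ 3) u ↔ φ u = 1 := by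
  constructor
  · intro h
    rw [← phi_conj φ h, H56.centInv, map_pow, hσ]
    decide
  · intro h
    rcases D.over_cases R hu hu2 hu1 with hp | ⟨i, hi, hp⟩
    · rw [D.eq_centInv_of_over R hu hu2 hp]
    · have h1 := phi_retr φ hσ hτ D R hu
      rw [h, hp, phi_refl φ hσ hτ] at h1
      refine IsConj.trans ?_ ((D.shift i).isConj_of_over R hu hu2 hp)
      have hc : i = 0 ∨ i = 2 := by
        norm_num at hi
        obtain ⟨m, rfl⟩ := h1
        omega
      rcases hc with rfl | rfl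
      · rw [pow_zero, one_mul]; exact h0
      · exact h0.trans (by simpa using conj_refl_two D 0)

open scoped Classical in
/-- The pair count. -/
theorem pair_sum [Fintype G] (D : H56.DihSylow P σ τ 3) (R : H56.CentRetr P (H56.centInv σ 3))
    (h0 : IsConj (σ ^ 2) τ) :
    ∑ u ∈ Finset.univ.filter (IsConj (H56.centInv σ 3)),
      ∑ v ∈ Finset.univ.filter (IsConj (H56.centInv σ 3)), H56.dihF R (u * v) =
    4 * (R.W τ : ℂ) ^ 2 := by
  have hJ2 : (H56.centInv σ 3) * (H56.centInv σ 3) = 1 := D.centInv_mul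
  set U := Finset.univ.filter (fun u : G => u ∈ centralizer ({(H56.centInv σ 3)} : Set G) ∧ u * u = 1 ∧ u ≠ 1) with hU
  have hclsq : ∀ u, IsConj (H56.centInv σ 3) u → u * u = 1 ∧ u ≠ 1 := fun u hu => ⟨sq_of_conj hu hJ2, fun h => by
    rw [h] at hu
    exact H28.ne_one_of_orderOf_two D.orderOf_centInv (isConj_one_left.1 hu)⟩
  set f : G → G → ℂ := fun u v => if φ u = 1 ∧ φ v = 1 then H56.dF σ 3 (u * v) else 0 with hf
  have step : ∑ u ∈ Finset.univ.filter (IsConj (H56.centInv σ 3)),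
      ∑ v ∈ Finset.univ.filter (IsConj (H56.centInv σ 3)), H56.dihF R (u * v) =
      ∑ u ∈ U, ∑ v ∈ U, f (R.π u) (R.π v) := by
    rw [← Finset.sum_subset (s₁ := (Finset.univ.filter (IsConj (H56.centInv σ 3))).filter (· ∈ U))
        (Finset.filter_subset _ _) fun u hu hu' => ?_]
    · rw [← Finset.sum_subset (s₁ := U.filter (fun u => IsConj (H56.centInv σ 3) u)) (s₂ := U)
        (Finset.filter_subset _ _) fun u hu hu' => ?_]
      · refine Finset.sum_congr (by ext u; simp [and_comm]) fun u hu => ?_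
        obtain ⟨huU, huJ⟩ := Finset.mem_filter.1 hu
        obtain ⟨huC, hu2, hu1⟩ := (Finset.mem_filter.1 huU).2
        rw [← Finset.sum_subset (s₁ := (Finset.univ.filter (IsConj (H56.centInv σ 3))).filter (· ∈ U))
          (Finset.filter_subset _ _) fun v hv hv' => ?_]
        · rw [← Finset.sum_subset (s₁ := U.filter (fun v => IsConj (H56.centInv σ 3) v)) (s₂ := U)
            (Finset.filter_subset _ _) fun v hv hv' => ?_]
          · refine Finset.sum_congr (by ext v; simp [and_comm]) fun v hv => ?_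
            obtain ⟨hvU, hvJ⟩ := Finset.mem_filter.1 hv
            obtain ⟨hvC, hv2, hv1⟩ := (Finset.mem_filter.1 hvU).2
            rw [D.dihF_of_mem R (mul_mem huC hvC), R.π_mul _ huC _ hvC]
            simp only [hf, phi_retr φ hσ hτ D R huC, phi_retr φ hσ hτ D R hvC,
              (isConj_centInv_iff φ hσ hτ D R h0 huC hu2 hu1).1 huJ,
              (isConj_centInv_iff φ hσ hτ D R h0 hvC hv2 hv1).1 hvJ, and_self, if_true]
          · obtain ⟨hvC, hv2, hv1⟩ := (Finset.mem_filter.1 hv).2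
            have hnc : ¬ IsConj (H56.centInv σ 3) v := fun h => hv' (Finset.mem_filter.2 ⟨hv, h⟩)
            rw [isConj_centInv_iff φ hσ hτ D R h0 hvC hv2 hv1] at hnc
            simp [hf, phi_retr φ hσ hτ D R hvC, hnc]
        · by_contra h
          obtain ⟨hv2, hv1⟩ := hclsq v (Finset.mem_filter.1 hv).2
          refine hv' (Finset.mem_filter.2 ⟨hv, Finset.mem_filter.2 ⟨Finset.mem_univ _,
            D.mem_of_inverts R h ?_, hv2, hv1⟩⟩)
          rw [mul_inv_rev, inv_eq_of_mul_eq_one_right hu2, inv_eq_of_mul_eq_one_right hv2,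
            mul_assoc, mul_assoc, hv2, mul_one]
      · obtain ⟨huC, hu2, hu1⟩ := (Finset.mem_filter.1 hu).2
        have hnc : ¬ IsConj (H56.centInv σ 3) u := fun h => hu' (Finset.mem_filter.2 ⟨hu, h⟩)
        rw [isConj_centInv_iff φ hσ hτ D R h0 huC hu2 hu1] at hnc
        simp [hf, phi_retr φ hσ hτ D R huC, hnc]
    · refine Finset.sum_eq_zero fun v hv => ?_
      by_contra h
      obtain ⟨hu2, hu1⟩ := hclsq u (Finset.mem_filter.1 hu).2
      obtain ⟨hv2, -⟩ := hclsq v (Finset.mem_filter.1 hv).2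
      refine hu' (Finset.mem_filter.2 ⟨hu, Finset.mem_filter.2 ⟨Finset.mem_univ _,
        D.mem_of_inverts R h ?_, hu2, hu1⟩⟩)
      rw [mul_inv_rev, inv_eq_of_mul_eq_one_right hu2, inv_eq_of_mul_eq_one_right hv2,
        ← mul_assoc, hu2, one_mul]
  rw [step, Finset.sum_congr rfl fun u _ => D.sum_over R (fun q => f (R.π u) q),
    D.sum_over R (fun p => f p (H56.centInv σ 3) +
      ∑ j ∈ Finset.range (2 ^ (3 - 1)), (R.W (σ ^ j * τ) : ℂ) * f p (σ ^ j * τ))]
  have p1 : ¬ φ (σ ^ 1 * τ) = 1 := by rw [phi_refl φ hσ hτ]; decide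
  have p3 : ¬ φ (σ ^ 3 * τ) = 1 := by rw [phi_refl φ hσ hτ]; decide
  have p0 : φ (σ ^ 0 * τ) = 1 := by rw [phi_refl φ hσ hτ]; decide
  have p2 : φ (σ ^ 2 * τ) = 1 := by rw [phi_refl φ hσ hτ]; decide
  have hcomm : τ * σ ^ 2 = σ ^ 2 * τ := D.commute_tau.eq
  have vJJ : f (H56.centInv σ 3) (H56.centInv σ 3) = 0 := by
    simp only [hf, D.centInv_mul, D.dF_one, ite_self]
  have vJr : ∀ i, f (H56.centInv σ 3) (σ ^ i * τ) = 0 := fun i => by
    have : H56.dF σ 3 (H56.centInv σ 3 * (σ ^ i * τ)) = 0 := by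
      rw [← mul_assoc, H56.centInv, ← pow_add, D.dF_tau]
    simp only [hf, this, ite_self]
  have vrJ : ∀ i, f (σ ^ i * τ) (H56.centInv σ 3) = 0 := fun i => by
    have : H56.dF σ 3 (σ ^ i * τ * H56.centInv σ 3) = 0 := by
      rw [mul_assoc, D.commute_tau.eq, ← mul_assoc, H56.centInv, ← pow_add, D.dF_tau]
    simp only [hf, this, ite_self]
  have v1 : ∀ i, f (σ ^ 1 * τ) (σ ^ i * τ) = 0 := fun i => if_neg fun h => p1 h.1
  have v3 : ∀ i, f (σ ^ 3 * τ) (σ ^ i * τ) = 0 := fun i => if_neg fun h => p3 h.1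
  have w1 : ∀ i, f (σ ^ i * τ) (σ ^ 1 * τ) = 0 := fun i => if_neg fun h => p1 h.2
  have w3 : ∀ i, f (σ ^ i * τ) (σ ^ 3 * τ) = 0 := fun i => if_neg fun h => p3 h.2
  have v00 : f (σ ^ 0 * τ) (σ ^ 0 * τ) = 0 := by
    simp only [hf, D.refl_mul_self, D.dF_one, ite_self]
  have v22 : f (σ ^ 2 * τ) (σ ^ 2 * τ) = 0 := by
    simp only [hf, D.refl_mul_self, D.dF_one, ite_self]
  have v02 : f (σ ^ 0 * τ) (σ ^ 2 * τ) = 2 := by
    simp only [hf, p0, p2, and_self, if_true]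
    rw [pow_zero, one_mul, ← mul_assoc, hcomm, mul_assoc, D.tau_mul, mul_one]
    exact D.dF_centInv
  have v20 : f (σ ^ 2 * τ) (σ ^ 0 * τ) = 2 := by
    simp only [hf, p0, p2, and_self, if_true]
    rw [pow_zero, one_mul, mul_assoc, D.tau_mul, mul_one]
    exact D.dF_centInv
  have hW : R.W (σ ^ 2 * τ) = R.W (σ ^ 0 * τ) := D.W_add_two R 0
  have hW0 : R.W (σ ^ 0 * τ) = R.W τ := by rw [pow_zero, one_mul]
  rw [show (2 : ℕ) ^ (3 - 1) = 4 from rfl]
  simp only [Finset.sum_range_succ, Finset.sum_range_zero, zero_add, vJJ, vJr, vrJ, v1, v3, w1, w3,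
    v00, v22, v02, v20, hW, hW0, mul_zero, add_zero]
  ring

end

/-- The two equations. -/
theorem outer_equations (D : H56.DihSylow P σ τ 3) (R : H56.CentRetr P (H56.centInv σ 3))
    (hC : Nat.card (centralizer ({σ} : Set G)) = 4) (hkap : R.kap τ = 1)
    (φ : G →* ℤˣ) (hσ : φ σ = -1) (hτ : φ τ = 1) (h0 : IsConj (σ ^ 2) τ) :
    ∃ k : ℤ, Odd k ∧
      (Nat.card (centralizer ({σ * τ} : Set G)) : ℤ) * k =
        4 * (Nat.card R.K : ℤ) ^ 2 * (2 * k + 1) ∧
      (Nat.card G : ℤ) * k ^ 2 =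
        8 * (Nat.card R.K : ℤ) ^ 3 * ((4 * k + 1) * (2 * k + 1)) := by
  classical
  haveI := Fintype.ofFinite G
  obtain ⟨M, hM⟩ := H42.exists_isPModular Nat.prime_two
  obtain ⟨F₀⟩ := exists_four D hC M hM
  -- the sign character
  let lam : Cfsg.IrrCharacter G :=
    ⟨_, H26.isIrrCharacter_hom ((Units.map (Int.castRingHom ℂ).toMonoidHom).comp φ)⟩
  have hlam : ∀ g, lam.1 g = ((φ g : ℤ) : ℂ) := fun g => rfl
  have lσ : lam.1 σ = -1 := by rw [hlam, hσ]; simp
  have hlam1 : lam ≠ H26.oneIrr G := fun e => by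
    have := lσ
    rw [e, H26.oneIrr_val] at this
    norm_num at this
  have lJ : lam.1 (σ ^ 2) = 1 := by rw [hlam, map_pow, hσ]; simp
  obtain ⟨F, hF2⟩ : ∃ F : Four M σ, F.χ₂ = lam := by
    rcases F₀.zero lam (by rw [lσ]; norm_num) with h | h | h | h
    · exact absurd h hlam1
    · exfalso
      rw [h, F₀.s₁] at lσ
      rw [h, F₀.J₁, lσ] at lJ
      norm_num at lJ
    · exact ⟨F₀, h.symm⟩
    · exact ⟨F₀.swap, h.symm⟩
  have hd2 : (F.δ₂ : ℂ) = -1 := by rw [← F.s₂, hF2, lσ]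
  let tw := H43.irrTwist F.χ₁ ((Units.map (Int.castRingHom ℂ).toMonoidHom).comp φ)
  have htw : ∀ g, tw.1 g = F.χ₁.1 g * ((φ g : ℤ) : ℂ) := fun g => rfl
  have hF3 : F.χ₃ = tw := by
    have ts : tw.1 σ = -(F.δ₁ : ℂ) := by rw [htw, F.s₁, hσ]; simp
    have tJ : tw.1 (σ ^ 2) = (F.δ₁ : ℂ) := by rw [htw, F.J₁, map_pow, hσ]; simp
    have hne : (F.δ₁ : ℂ) ≠ 0 := by rcases F.h₁ with h | h <;> rw [h] <;> norm_num
    rcases F.zero tw (by rw [ts]; simpa using hne) with h | h | h | h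
    · exfalso
      rw [h, H26.oneIrr_val] at ts tJ
      rw [← tJ] at ts
      norm_num at ts
    · exfalso
      rw [h, F.s₁] at ts
      exact hne (by linear_combination ts / 2)
    · exfalso
      refine F.ne₁ (Subtype.ext (funext fun g => ?_))
      have h' := congrArg (fun χ : Cfsg.IrrCharacter G => χ.1 g) h
      simp only [hF2, htw, hlam] at h'
      rw [H26.oneIrr_val]
      have hne : ((φ g : ℤ) : ℂ) ≠ 0 := by
        rcases Int.units_eq_one_or (φ g) with e | e <;> rw [e] <;> simp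
      exact mul_right_cancel₀ hne (by rw [h', one_mul])
    · exact h.symm
  have hd3 : (F.δ₃ : ℂ) = -F.δ₁ := by rw [← F.s₃, hF3, htw, F.s₁, hσ]; simp
  have q1 : (F.δ₁ : ℂ) * F.δ₁ = 1 := by rcases F.h₁ with h | h <;> rw [h] <;> norm_num
  have hφj : φ (σ * τ) = -1 := by rw [map_mul, hσ, hτ, mul_one]
  -- the value at the outer involution
  have hcj : F.χ₁.1 (σ * τ) = -(F.δ₁ : ℂ) := by
    have hnc : ¬ IsConj (σ * τ) σ := fun h => by
      have h1 : (σ * τ) * (σ * τ) = 1 := by simpa using D.refl_mul_self 1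
      have h2 := sq_of_conj h h1
      have h3 : orderOf σ ∣ 2 := orderOf_dvd_of_pow_eq_one (by rw [pow_two]; exact h2)
      rw [orderOf_sigma D] at h3
      norm_num at h3
    have h := F.column hnc
    rw [hd2, hd3, hF2, hF3, htw, hlam, hφj] at h
    push_cast at h
    linear_combination (F.δ₁ / 2 : ℂ) * h - F.χ₁.1 (σ * τ) * q1
  -- the congruence
  obtain ⟨c, hc⟩ := sum_sylow D F.χ₁
  have hτJ : F.χ₁.1 τ = F.δ₁ := by rw [← H26.irr_eq_of_isConj F.χ₁ h0, F.J₁]
  have h2τ : F.χ₁.1 (σ ^ 2 * τ) = F.δ₁ := by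
    rw [← H26.irr_eq_of_isConj F.χ₁ (conj_refl_two D 0), pow_zero, one_mul, hτJ]
  have h3τ : F.χ₁.1 (σ ^ 3 * τ) = -(F.δ₁ : ℂ) := by
    rw [← H26.irr_eq_of_isConj F.χ₁ (conj_refl_two D 1), pow_one, hcj]
  rw [H43.irr_charDegree_spec, F.s₁, F.J₁, ← H26.irr_eq_of_isConj F.χ₁ (conj_cube D), F.s₁, hτJ,
    h2τ, h3τ, hcj] at hc
  have hc' : (Cfsg.charDegree F.χ₁.1 : ℤ) + 3 * F.δ₁ = 8 * c := by
    have : (Cfsg.charDegree F.χ₁.1 : ℂ) + 3 * F.δ₁ = 8 * c := by linear_combination hc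
    exact_mod_cast this
  obtain ⟨k, hk, he⟩ : ∃ k : ℤ, Odd k ∧ F.e₁ = 4 * k + 1 :=
    ⟨2 * (F.δ₁ * c) - 1, ⟨F.δ₁ * c - 1, by ring⟩, by
      unfold Four.e₁
      rcases F.h₁ with h | h <;> rw [h] at hc' ⊢ <;> omega⟩
  have n1 : (F.e₁ : ℂ) ≠ 0 := Int.cast_ne_zero.2 (by omega)
  have n1' : (F.e₁ : ℂ) + 1 ≠ 0 := by
    have : ((F.e₁ + 1 : ℤ) : ℂ) ≠ 0 := Int.cast_ne_zero.2 (by omega)
    simpa using this
  have i1 : (F.δ₁ : ℂ) / (Cfsg.charDegree F.χ₁.1 : ℂ) = (F.e₁ : ℂ)⁻¹ := sign_div F.h₁ _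
  have hcJ : Nat.card (centralizer ({σ ^ 2} : Set G)) = 8 * Nat.card R.K := by
    have := D.card_centralizer R
    rw [show σ ^ 2 = H56.centInv σ 3 from rfl, this]
    norm_num
  set b : ℂ := (Nat.card R.K : ℂ) with hb
  set g : ℂ := (Nat.card G : ℂ) with hg
  set C₂ : ℂ := (Nat.card (centralizer ({σ * τ} : Set G)) : ℂ) with hC₂
  have hg0 : g ≠ 0 := Nat.cast_ne_zero.2 Nat.card_pos.ne'
  have hclJ : (Nat.card {y : G // IsConj (σ ^ 2) y} : ℂ) * (8 * b) = g := by
    have := card_conj_mul (σ ^ 2)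
    rw [hcJ] at this
    rw [hb, hg]
    exact_mod_cast this
  have hclj : (Nat.card {y : G // IsConj (σ * τ) y} : ℂ) * C₂ = g := by
    rw [hC₂, hg]
    exact_mod_cast card_conj_mul (σ * τ)
  -- products of the two classes
  have hJ2 : σ ^ 2 * σ ^ 2 = 1 := H28.mul_self_of_orderOf_two (orderOf_sq D)
  have hj2 : σ * τ * (σ * τ) = 1 := by simpa using D.refl_mul_self 1
  have hpair : Nat.card {x : G × G // IsConj (σ ^ 2) x.1 ∧ IsConj (σ * τ) x.2 ∧ x.1 * x.2 = σ} = 2 := by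
    have := card_pairs D (fun u => IsConj (σ ^ 2) u ∧ IsConj (σ * τ) (u⁻¹ * σ)) {0, 2}
      (fun i hi => by simp at hi; omega) (fun u => ⟨fun ⟨h', h''⟩ => ?_, ?_⟩)
    · rw [show ({0, 2} : Finset ℕ).card = 2 from rfl] at this
      refine Eq.trans (Nat.card_congr (Equiv.subtypeEquivRight fun x => ?_)) this
      constructor
      · rintro ⟨a1, a2, a3⟩
        exact ⟨⟨a1, (eq_inv_mul_iff_mul_eq.2 a3 : x.2 = x.1⁻¹ * σ) ▸ a2⟩, a3⟩
      · rintro ⟨⟨a1, a2⟩, a3⟩
        exact ⟨a1, (eq_inv_mul_iff_mul_eq.2 a3 : x.2 = x.1⁻¹ * σ).symm ▸ a2, a3⟩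
    · obtain ⟨i, hi, rfl⟩ := eq_refl_of_inverts D hC (inverts_of_pair (sq_of_conj h' hJ2)
        (sq_of_conj h'' hj2) (mul_inv_cancel_left u σ))
      have h1 := phi_conj φ h'
      rw [map_pow, hσ, eq_comm, neg_one_sq, phi_refl φ hσ hτ] at h1
      obtain ⟨m, rfl⟩ := h1
      refine ⟨m + m, ?_, rfl⟩
      simp
      omega
    · rintro ⟨i, hi, rfl⟩
      rw [refl_inv_mul D i]
      simp at hi
      rcases hi with rfl | rfl
      · exact ⟨by simpa using h0, by simpa using conj_refl_two D 1⟩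
      · refine ⟨h0.trans (by simpa using conj_refl_two D 0), ?_⟩
        have h5 : σ ^ (2 + 3) = σ := by
          rw [← pow_mod_orderOf, orderOf_sigma D]; norm_num
        rw [h5]
  have e1 : g * ((F.e₁ : ℂ) - 1) = 8 * b * C₂ * F.e₁ := by
    have eq := H38.class_coeff (σ ^ 2) (σ * τ) σ
    have s : ∑ χ : Cfsg.IrrCharacter G, χ.1 (σ ^ 2) * χ.1 (σ * τ) * conj (χ.1 σ) / χ.1 1 =
        2 - 2 * (F.e₁ : ℂ)⁻¹ := by
      have := F.sum_eq fun χ => χ.1 (σ ^ 2) * χ.1 (σ * τ) / χ.1 1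
      rw [hd2, hd3, hF2, hF3] at this
      simp only [H26.oneIrr_val, hlam, htw, map_pow, hσ, hφj, F.J₁, hcj, H43.irr_charDegree_spec,
        map_one] at this
      push_cast at this
      rw [← i1]
      refine ((Finset.sum_congr rfl fun χ _ => ?_).trans this).trans ?_
      · rw [H43.irr_charDegree_spec]; ring
      · linear_combination (-2 * ((F.δ₁ : ℂ) / (Cfsg.charDegree F.χ₁.1 : ℂ))) * q1
    rw [hpair, s, ← hg] at eq
    push_cast at eq
    have e0 : g * 2 = (Nat.card {y : G // IsConj (σ ^ 2) y} : ℂ) *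
        Nat.card {y : G // IsConj (σ * τ) y} * (2 - 2 * (F.e₁ : ℂ)⁻¹) := by
      nth_rewrite 1 [eq]
      field_simp
    have e1 : g * (1 - (F.e₁ : ℂ)⁻¹) = 8 * b * C₂ := by
      refine mul_left_cancel₀ hg0 ?_
      linear_combination -(4 * b * C₂) * e0 - (1 - (F.e₁ : ℂ)⁻¹) *
        ((Nat.card {y : G // IsConj (σ * τ) y} : ℂ) * C₂ * hclJ + g * hclj)
    rw [← e1]
    field_simp
  -- the section sum
  have e2 : g * ((F.e₁ : ℂ) - 1) ^ 2 = 64 * b ^ 3 * ((F.e₁ : ℂ) * (F.e₁ + 1)) := by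
    have c0 : Cfsg.classInner (H56.dihTheta R) (H26.oneIrr G).1 = (1 : ℤ) :=
      D.coeff_of_const R _ 1 fun i _ _ k _ => by simp [H26.oneIrr_val]
    have c1 : Cfsg.classInner (H56.dihTheta R) F.χ₁.1 = (F.δ₁ : ℤ) :=
      D.coeff_of_const R _ F.δ₁ fun i hi0 hi k hk => by
        rw [D.principal_const R M hM F.mem₁ hi0 hi hk, F.const₁ i hi0 (by simpa using hi)]
    choose cf hcf using D.exists_int_coeff R
    have f0 : cf (H26.oneIrr G) = 1 := by exact_mod_cast (hcf _).symm.trans c0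
    have f1 : cf F.χ₁ = F.δ₁ := by exact_mod_cast (hcf _).symm.trans c1
    have hsq : F.δ₁ ^ 2 = 1 := by rcases F.h₁ with h | h <;> rw [h] <;> norm_num
    set s : Finset (Cfsg.IrrCharacter G) := (Finset.univ.erase (H26.oneIrr G)).erase F.χ₁ with hs
    have hm1 : F.χ₁ ∈ Finset.univ.erase (H26.oneIrr G) :=
      Finset.mem_erase.2 ⟨F.ne₁, Finset.mem_univ _⟩
    have hrest : ∑ χ ∈ s, cf χ ^ 2 = 1 := by
      have h := D.norm_dihTheta R
      rw [if_neg (by norm_num), H26.classInner_eq_sum _ _ (H56.dihTheta_isClassFunction R)] at h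
      simp only [hcf, map_intCast, ← pow_two] at h
      have h3 : ∑ χ, cf χ ^ 2 = 3 := by exact_mod_cast h
      rw [← Finset.add_sum_erase _ _ (Finset.mem_univ (H26.oneIrr G)),
        ← Finset.add_sum_erase _ _ hm1, f0, f1, hsq] at h3
      rw [hs]
      linarith
    obtain ⟨ψ, hψ, hψ0⟩ := Finset.exists_ne_zero_of_sum_ne_zero (by rw [hrest]; norm_num)
    have hψ1 : cf ψ ^ 2 = 1 := by
      have h := Finset.single_le_sum (f := fun χ => cf χ ^ 2) (fun i _ => sq_nonneg _) hψ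
      rw [hrest] at h
      have : 0 < cf ψ ^ 2 := lt_of_le_of_ne (sq_nonneg _) (Ne.symm hψ0)
      omega
    have hz : ∀ χ ∈ s, χ ≠ ψ → cf χ = 0 := by
      intro χ hχ hne
      have h := Finset.add_sum_erase s (fun χ => cf χ ^ 2) hψ
      rw [hrest, hψ1] at h
      have h' := (Finset.sum_eq_zero_iff_of_nonneg (fun i _ => sq_nonneg (cf i))).1
        (by linarith : ∑ x ∈ s.erase ψ, cf x ^ 2 = 0) χ (Finset.mem_erase.2 ⟨hne, hχ⟩)
      simpa using h'
    have hsum : ∀ f : Cfsg.IrrCharacter G → ℂ,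
        ∑ χ, Cfsg.classInner (H56.dihTheta R) χ.1 * f χ =
          f (H26.oneIrr G) + F.δ₁ * f F.χ₁ + cf ψ * f ψ := by
      intro f
      rw [← Finset.add_sum_erase _ _ (Finset.mem_univ (H26.oneIrr G)),
        ← Finset.add_sum_erase _ _ hm1, ← hs, Finset.sum_eq_single ψ
          (fun χ hχ hne' => by rw [hcf, hz χ hχ hne', Int.cast_zero, zero_mul])
          (fun h => absurd hψ h), c0, c1, hcf, Int.cast_one, one_mul, add_assoc]
    have hexp : ∀ x, H56.dihTheta R x = 1 + F.δ₁ * F.χ₁.1 x + cf ψ * ψ.1 x := by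
      intro x
      conv_lhs => rw [H26.class_function_expansion _ (H56.dihTheta_isClassFunction R)]
      simp only [Finset.sum_apply, Pi.smul_apply, smul_eq_mul]
      rw [hsum fun χ => χ.1 x, H26.oneIrr_val]
    have hA := (hexp 1).symm.trans (D.dihTheta_one R)
    have hB := (hexp (H56.centInv σ 3)).symm.trans (D.dihTheta_centInv R)
    have hJ1 : F.χ₁.1 (H56.centInv σ 3) = F.δ₁ := F.J₁
    -- the two ways of computing the sum over pairs
    set U := Finset.univ.filter (IsConj (H56.centInv σ 3)) with hU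
    have hb1 := H38.sum_class_pair (H56.dihTheta R) (H56.dihTheta_isClassFunction R)
      (H56.centInv σ 3) (H56.centInv σ 3)
    have ha : ∑ u ∈ U, ∑ v ∈ U, H56.dihTheta R (u * v) =
        ((2 ^ (3 - 1) : ℕ) * b : ℂ)⁻¹ * (g * ∑ u ∈ U, ∑ v ∈ U, H56.dihF R (u * v)) := by
      simp only [H56.dihTheta, ← Finset.mul_sum, hb]
      congr 1
      rw [Finset.sum_congr rfl fun u _ => Finset.sum_comm, Finset.sum_comm,
        Finset.sum_congr rfl fun x _ => ?_, Finset.sum_const, Finset.card_univ, nsmul_eq_mul,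
        hg, Nat.card_eq_fintype_card]
      have hmem : ∀ x u : G, u ∈ U ↔ x * u * x⁻¹ ∈ U := fun x u => by
        simp only [hU, Finset.mem_filter, Finset.mem_univ, true_and]
        exact ⟨fun h => h.trans (isConj_iff.2 ⟨x, rfl⟩),
          fun h => h.trans (isConj_iff.2 ⟨x, rfl⟩ : IsConj u (x * u * x⁻¹)).symm⟩
      refine Finset.sum_equiv (MulAut.conj x).toEquiv (fun u => hmem x u) fun u _ => ?_
      refine Finset.sum_equiv (MulAut.conj x).toEquiv (fun v => hmem x v) fun v _ => ?_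
      simp [mul_assoc]
    have hW : (R.W τ : ℂ) = b := by
      have := D.W_mul_kap R
      rw [hkap, mul_one] at this
      rw [this, hb]
    rw [ha, pair_sum φ hσ hτ D R h0, hsum, H26.oneIrr_val, H26.oneIrr_val, hJ1, hW,
      show U.card = Nat.card {y : G // IsConj (σ ^ 2) y} by
        rw [hU, Nat.card_eq_fintype_card, Fintype.card_subtype]; rfl] at hb1
    rw [H43.irr_charDegree_spec, H43.irr_charDegree_spec] at hA
    rw [H43.irr_charDegree_spec, H43.irr_charDegree_spec] at hb1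
    rw [hJ1] at hB
    have hx0 : (Cfsg.charDegree F.χ₁.1 : ℂ) ≠ 0 := by
      rw [← H43.irr_charDegree_spec]; exact H26.irr_one_ne_zero _
    have hy0 : (Cfsg.charDegree ψ.1 : ℂ) ≠ 0 := by
      rw [← H43.irr_charDegree_spec]; exact H26.irr_one_ne_zero _
    have hf : (cf ψ : ℂ) ^ 2 = 1 := by exact_mod_cast hψ1
    generalize (Cfsg.charDegree ψ.1 : ℂ) = y at hA hb1 hy0
    generalize ψ.1 (H56.centInv σ 3) = v at hB hb1
    generalize (cf ψ : ℂ) = t at hA hB hb1 hf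
    have he1 : (F.e₁ : ℂ) = F.δ₁ * Cfsg.charDegree F.χ₁.1 := by simp [Four.e₁]
    have hty : t * y = -(1 + (F.e₁ : ℂ)) := by linear_combination hA + he1
    have htv : t * v = 2 := by linear_combination hB - q1
    have hterm : t * (v * v / y) = -4 / (1 + (F.e₁ : ℂ)) := by
      rw [show t * (v * v / y) = (t * v) * (t * v) / (t * y) by
        field_simp, htv, hty]
      rw [div_neg, neg_div]
      ring
    have hS : (1 : ℂ) * 1 / 1 + F.δ₁ * (F.δ₁ * F.δ₁ / (Cfsg.charDegree F.χ₁.1 : ℂ)) + t * (v * v / y) =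
        1 + (F.e₁ : ℂ)⁻¹ - 4 / (1 + (F.e₁ : ℂ)) := by
      rw [hterm, ← i1, q1]
      ring
    simp only [map_one, one_mul, mul_one, div_one] at hS hb1
    rw [hS] at hb1
    push_cast at hb1
    obtain ⟨S, hSdef⟩ : ∃ S : ℂ, S = 1 + (F.e₁ : ℂ)⁻¹ - 4 / (1 + (F.e₁ : ℂ)) := ⟨_, rfl⟩
    rw [← hSdef] at hb1
    have hb2 : g * b = (Nat.card {y : G // IsConj (σ ^ 2) y} : ℂ) *
        Nat.card {y : G // IsConj (σ ^ 2) y} * S := by
      have hb0 : b ≠ 0 := Nat.cast_ne_zero.2 Nat.card_pos.ne'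
      rw [← hb1]
      field_simp
    have e3 : g * (1 + (F.e₁ : ℂ)⁻¹ - 4 / (1 + (F.e₁ : ℂ))) = 64 * b ^ 3 := by
      rw [← hSdef]
      refine mul_left_cancel₀ hg0 ?_
      linear_combination (-64 * b ^ 2) * hb2 -
        S * (g + 8 * b * (Nat.card {y : G // IsConj (σ ^ 2) y} : ℂ)) * hclJ
    rw [← e3]
    have : (1 : ℂ) + F.e₁ ≠ 0 := by rwa [add_comm]
    field_simp
    ring
  have e1' : (Nat.card G : ℤ) * (F.e₁ - 1) =
      8 * (Nat.card R.K : ℤ) * (Nat.card (centralizer ({σ * τ} : Set G)) : ℤ) * F.e₁ := by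
    rw [hg, hb, hC₂] at e1
    exact_mod_cast e1
  have e2' : (Nat.card G : ℤ) * (F.e₁ - 1) ^ 2 =
      64 * (Nat.card R.K : ℤ) ^ 3 * (F.e₁ * (F.e₁ + 1)) := by
    rw [hg, hb] at e2
    exact_mod_cast e2
  rw [he] at e1' e2'
  refine ⟨k, hk, ?_, ?_⟩
  · have hb0 : (0 : ℤ) < Nat.card R.K := Int.natCast_pos.2 Nat.card_pos
    refine mul_left_cancel₀ (mul_ne_zero (mul_ne_zero (by norm_num : (32 : ℤ) ≠ 0) hb0.ne')
      (by omega : (4 * k + 1) ≠ 0)) ?_
    linear_combination e2' - (4 * k) * e1'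
  · linarith

end Cfsg.Agent.H69.Small4
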